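import Cfsg.Agent.Lib.OddMult.Bound
import Cfsg.Agent.Lib.POmega.Wedge
import Cfsg.Agent.Lib.POmega.Simple
import Cfsg.Agent.Lib.ClassicalGroups.OrthCard
import Cfsg.Agent.Classical.SLGen
import Cfsg.Agent.Lib.ChevMult.SLUniv
import Cfsg.Agent.Lib.ChevStr.Orders
import Cfsg.Agent.Lib.OrthIso.TypeD4
import Cfsg.Agent.S0790
import Cfsg.Agent.S1054
import Cfsg.Agent.S2400

/-!
The bases `Ω⁺₆(q)`, `q ≥ 5` (through `SL₄`), and `Ω⁺₈(3)` (through Steinberg's group), and the induction.
-/

set_option autoImplicit false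
set_option linter.unusedSectionVars false

namespace CfsgLib.OddMult

open Matrix QuadraticMap CfsgLib.Orth Cfsg.Agent.Spinor57

universe u

variable {F : Type u} [Field F] [Fintype F]

/-- Plücker coordinates. -/
def plucker (F : Type*) [Field F] : (Fin 3 ⊕ Fin 3 → F) ≃ₗ[F] (Fin 6 → F) where
  toFun v := ![v (.inl 0), -v (.inl 1), v (.inl 2), v (.inr 2), v (.inr 1), v (.inr 0)]
  invFun p := Sum.elim ![p 0, -p 1, p 2] ![p 5, p 4, p 3]
  left_inv v := by funext i; rcases i with i | i <;> fin_cases i <;> simp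
  right_inv p := by funext i; fin_cases i <;> simp
  map_add' u v := by funext i; fin_cases i <;> simp <;> ring
  map_smul' c v := by funext i; fin_cases i <;> simp

/-- `SL₄ → Ω⁺₆` has range `Ω` and kernel of order `gcd(2, q - 1)`. -/
theorem exists_wedgeHom : ∃ φ : Matrix.SpecialLinearGroup (Fin 4) F →* O (plusQ 3 F),
    φ.range = commutator (O (plusQ 3 F)) ∧ Nat.card φ.ker ≤ 2 := by
  classical
  set q := Fintype.card F with hq
  have hQ := plusQ_nondegenerate (F := F) 3
  let ρ : Matrix.SpecialLinearGroup (Fin 4) F → (Fin 3 ⊕ Fin 3 → F) →ₗ[F] (Fin 3 ⊕ Fin 3 → F) :=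
    fun g => (plucker F).symm.toLinearMap.comp
      ((Matrix.mulVecLin (CfsgLib.POmega.wedge g.1)).comp (plucker F).toLinearMap)
  have hρ : ∀ g v, plucker F (ρ g v) = CfsgLib.POmega.wedge g.1 *ᵥ plucker F v := fun g v =>
    (plucker F).apply_symm_apply _
  have h1 : ∀ x, ρ 1 x = x := fun x => (plucker F).injective (by
    rw [hρ, Matrix.SpecialLinearGroup.coe_one, CfsgLib.POmega.wedge_one, Matrix.one_mulVec])
  have hm : ∀ g h x, ρ (g * h) x = ρ g (ρ h x) := fun g h x => (plucker F).injective (by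
    rw [hρ, hρ, hρ, Matrix.SpecialLinearGroup.coe_mul, CfsgLib.POmega.wedge_mul, Matrix.mulVec_mulVec])
  have hpf : ∀ v, plusQ 3 F v = CfsgLib.POmega.pf (plucker F v) := fun v => by
    simp [plusQ_coe, Cfsg.quadFormPlus, CfsgLib.POmega.pf, plucker, Fin.sum_univ_three]
  have hq' : ∀ g x, plusQ 3 F (ρ g x) = plusQ 3 F x := fun g x => by
    rw [hpf, hpf, hρ, CfsgLib.POmega.pf_wedge, g.2, one_mul]
  let φ := CfsgLib.POmega.mkHom ρ h1 hm hq'
  have hscal : ∀ g ∈ φ.ker, ∃ μ : F, μ * μ = 1 ∧ g.1 = μ • 1 := fun g hg => by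
    have hg' := (CfsgLib.POmega.mkHom_ker ρ h1 hm hq' g).1 hg
    have hfix : ∀ p, CfsgLib.POmega.wedge g.1 *ᵥ p = p := fun p => by
      rw [← (plucker F).apply_symm_apply p, ← hρ, hg']
    exact CfsgLib.POmega.scalar_of_wedge g.1 (fun _ _ => hfix _) (hfix _)
  have hkcard : Nat.card φ.ker = Nat.gcd 2 (q - 1) :=
    CfsgLib.POmega.card_scalar_sq φ.ker (fun g => g.1) Subtype.val_injective hscal fun μ hμ => by
      refine ⟨⟨μ • 1, ?_⟩, (CfsgLib.POmega.mkHom_ker ρ h1 hm hq' _).2 fun x =>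
        (plucker F).injective ?_, rfl⟩
      · rw [Matrix.det_smul, Fintype.card_fin, Matrix.det_one]; linear_combination (μ * μ + 1) * hμ
      · refine (hρ _ _).trans ?_
        show CfsgLib.POmega.wedge (μ • 1) *ᵥ _ = _
        rw [CfsgLib.POmega.wedge_scalar hμ, Matrix.one_mulVec]
  have hp : commutator (Matrix.SpecialLinearGroup (Fin 4) F) = ⊤ :=
    Cfsg.Agent.Classical.sl_commutator_eq_top (by simp)
  have hO : Nat.card (O (plusQ 3 F)) =
      2 * q ^ 6 * (q ^ 3 - 1) * ((q ^ 2 - 1) * (q ^ 4 - 1)) := by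
    rw [O, plusQ_coe, CfsgLib.ClassicalGroups.card_isometry_plus, ← hq,
      Finset.prod_range_succ, Finset.prod_range_succ, Finset.prod_range_zero, one_mul]
  have hcard : Nat.card (commutator (O (plusQ 3 F))) * Nat.card φ.ker =
      Nat.card (Matrix.SpecialLinearGroup (Fin 4) F) := by
    have := CfsgLib.POmega.card_omega_mul (Q := plusQ 3 F)
    rw [CfsgLib.POmega.index_omega hQ (by simp), hO, ← hq] at this
    have hsl := Cfsg.Agent.Classical.card_sl_mul (F := F) 4 (by norm_num)
    rw [← hq, Fin.prod_univ_four] at hsl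
    simp only [Fin.val_zero, Fin.val_one, Fin.val_two, pow_zero, pow_one] at hsl
    rw [show ((3 : Fin 4) : ℕ) = 3 from rfl] at hsl
    have hq1 : 1 < q := hq ▸ Fintype.one_lt_card
    rw [hkcard]
    refine Nat.eq_of_mul_eq_mul_left (show 0 < q - 1 by omega) ?_
    rw [hsl, show q ^ 4 - q = q * (q ^ 3 - 1) by rw [Nat.mul_sub, mul_one, ← pow_succ'],
      show q ^ 4 - q ^ 2 = q ^ 2 * (q ^ 2 - 1) by rw [Nat.mul_sub, mul_one, ← pow_add],
      show q ^ 4 - q ^ 3 = q ^ 3 * (q - 1) by rw [Nat.mul_sub, mul_one, ← pow_succ]]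
    refine Nat.eq_of_mul_eq_mul_left (show 0 < 2 by norm_num) ?_
    generalize Nat.card (commutator (O (plusQ 3 F))) = C at this ⊢
    generalize Nat.gcd 2 (q - 1) = d at this ⊢
    generalize q - 1 = a
    generalize q ^ 2 - 1 = b at this ⊢
    generalize q ^ 3 - 1 = c at this ⊢
    generalize q ^ 4 - 1 = e at this ⊢
    calc 2 * (a * (C * d)) = a * (C * (2 * d)) := by ring
      _ = _ := by rw [this]; ring
  refine ⟨φ, Subgroup.eq_of_le_of_card_ge (CfsgLib.POmega.range_le_omega_of_perfect φ hp)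
    (le_of_eq ?_), ?_⟩
  · refine Nat.eq_of_mul_eq_mul_left (show 0 < Nat.card φ.ker from Nat.card_pos) ?_
    have h3 : Nat.card φ.ker * Nat.card φ.range = Nat.card (Matrix.SpecialLinearGroup (Fin 4) F) := by
      rw [← Subgroup.index_ker]; exact φ.ker.card_mul_index
    rw [h3, mul_comm, hcard]
  · rw [hkcard]; exact Nat.le_of_dvd two_pos (Nat.gcd_dvd_left 2 _)

theorem multLE_plus_three (h5 : 5 ≤ Fintype.card F) : MultLE (plusQ 3 F) := by
  obtain ⟨φ, hφ, hker⟩ := exists_wedgeHom (F := F)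
  refine MultLE.of_cover (fun E _ _ P => ?_) φ hφ hker
  exact CfsgLib.ChevMult.exists_section_sl P ⟨by norm_num, by simp, fun _ => by
    rw [Nat.card_eq_fintype_card]; omega⟩

open Cfsg.Lie in
theorem multLE_plus_four (h3 : Fintype.card F = 3) : MultLE (plusQ 4 F) := by
  classical
  have hmem : chevD4 ∈ [chevG2, chevB2, chevD4, chevF4, chevE6, chevE7, chevE8] := by simp
  obtain ⟨C, hadj, hlift, hperf⟩ := CfsgLib.ChevMult.exists_BDF_data (F := F) (D := chevD4)
    (by simp) (by omega)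
  obtain ⟨C', hη⟩ := CfsgLib.ChevStr.exists_core_etaNeg hmem F
  obtain ⟨e, -⟩ := CfsgLib.ChevCover.exists_cover_equiv C' hη hadj
  have := CfsgLib.ChevMult.finite_steinberg C hadj
  set hk := CfsgLib.OrthIso.termsD4
  set φ : chevD4.SteinbergGroup F →* O (plusQ 4 F) :=
    ((CfsgLib.OrthIso.modelD4 F).hom hk).comp e.symm.toMonoidHom with hφdef
  have hφ : φ.range = commutator (O (plusQ 4 F)) := by
    rw [hφdef, MonoidHom.range_comp, MonoidHom.range_eq_top.2 e.symm.surjective,
      ← MonoidHom.range_eq_map, CfsgLib.OrthIso.RootModel.hom_range, CfsgLib.OrthIso.omegaD4]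
  refine MultLE.of_cover (CfsgLib.ChevMult.splitsAll_of_trivial hperf
    (CfsgLib.ChevMult.hasCyclicSchurMultiplier_steinberg C hadj hperf hlift)) φ hφ ?_
  -- proper normal subgroups are central
  set Z := Subgroup.center (chevD4.SteinbergGroup F)
  have hker : (CfsgLib.ChevCover.groupHom C).ker = Z :=
    CfsgLib.ChevCover.ker_groupHom_eq_center C hadj
  have hcentral : ∀ N : Subgroup (chevD4.SteinbergGroup F), N.Normal → N ≠ ⊤ → N ≤ Z := by
    intro N hN htop
    have hs := (Cfsg.Agent.S1054.result (F := F) chevD4 (by simp)).1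
    rcases hs.eq_bot_or_eq_top_of_normal _
      (hN.map _ (CfsgLib.ChevCover.groupHom_surjective C)) with h | h
    · intro x hx
      rw [← hker, MonoidHom.mem_ker, ← Subgroup.mem_bot, ← h]
      exact ⟨x, hx, rfl⟩
    · exfalso
      refine htop (CfsgLib.ChevMult.top_le_of_central hperf hker.le fun g => ?_)
      have : CfsgLib.ChevCover.groupHom C g ∈ N.map (CfsgLib.ChevCover.groupHom C) := by
        rw [h]; trivial
      exact this
  have hQ := plusQ_nondegenerate (F := F) 4
  have hperfΩ := CfsgLib.POmega.omega_perfect hQ (by simp)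
  have h2 : (2 : F) ≠ 0 := two_ne_zero_of_odd h3 ⟨1, rfl⟩
  obtain ⟨w, hwΩ, hwm⟩ : ∃ w : O (plusQ 4 F), w ∈ commutator (O (plusQ 4 F)) ∧
      ((w : Matrix.GeneralLinearGroup (Fin 4 ⊕ Fin 4) F) :
        Matrix (Fin 4 ⊕ Fin 4) (Fin 4 ⊕ Fin 4) F) = -1 := by
    have h := (Cfsg.Agent.S0790.result (F := F) h3 ⟨1, rfl⟩ 4 (by norm_num)).2 (by norm_num)
    rw [← plusQ_coe (F := F) 4] at h
    exact h
  have hwapp : ∀ v, app w v = -v := fun v => by
    rw [app_apply, hwm, Matrix.neg_mulVec, Matrix.one_mulVec]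
  have hw1 : w ≠ 1 := fun h => by
    have := congrFun (hwapp (fun _ => (1 : F))) (Sum.inl 0)
    rw [h, app_one, Pi.neg_apply] at this
    exact h2 (by linear_combination this)
  have hwc : ∀ x : O (plusQ 4 F), x * w = w * x := fun x => ext_app fun v => by
    rw [app_mul, app_mul, hwapp, hwapp, map_neg]
  have hntriv : ∀ N : Subgroup (O (plusQ 4 F)), commutator (O (plusQ 4 F)) ≤ N →
      (∀ a ∈ N, ∀ b ∈ N, a * b = b * a) → False := by
    intro N hN hcomm
    have h1 : commutator ↥(commutator (O (plusQ 4 F))) = ⊥ := by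
      refine eq_bot_iff.2 (Subgroup.commutator_le.2 fun a _ b _ => ?_)
      exact commutatorElement_eq_one_iff_mul_comm.2
        (Subtype.ext (hcomm _ (hN a.2) _ (hN b.2)))
    rw [hperfΩ] at h1
    have h2 : (⟨w, hwΩ⟩ : commutator (O (plusQ 4 F))) ∈ (⊥ : Subgroup _) := h1 ▸ Subgroup.mem_top _
    exact hw1 (congrArg Subtype.val (Subgroup.mem_bot.1 h2))
  have hkerZ : φ.ker ≤ Z := hcentral _ inferInstance fun h => by
    refine hntriv ⊥ ?_ (fun a ha b hb => by rw [Subgroup.mem_bot.1 ha, Subgroup.mem_bot.1 hb])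
    rw [← hφ, MonoidHom.range_eq_map, ← h]
    rintro _ ⟨y, hy, rfl⟩
    exact Subgroup.mem_bot.2 hy
  -- `-1` comes from the centre
  let W : Subgroup (O (plusQ 4 F)) := Subgroup.closure {w}
  have hWn : W.Normal := Subgroup.Normal.mk fun n hn g => by
    have : n ∈ Subgroup.center (O (plusQ 4 F)) := by
      refine (Subgroup.closure_le _).2 ?_ hn
      rintro _ rfl
      exact Subgroup.mem_center_iff.2 hwc
    rwa [Subgroup.mem_center_iff.1 this g, mul_inv_cancel_right]
  have hWle : W.comap φ ≤ Z := hcentral _ (hWn.comap φ) fun h => by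
    refine hntriv W ?_ ?_
    · rw [← hφ, MonoidHom.range_eq_map, Subgroup.map_le_iff_le_comap, h]
    · intro a ha b hb
      have : b ∈ Subgroup.center (O (plusQ 4 F)) := by
        refine (Subgroup.closure_le _).2 ?_ hb
        rintro _ rfl
        exact Subgroup.mem_center_iff.2 hwc
      exact Subgroup.mem_center_iff.1 this a
  obtain ⟨x, hx⟩ : w ∈ φ.range := by rw [hφ]; exact hwΩ
  have hxZ : x ∈ Z := hWle (show φ x ∈ W by rw [hx]; exact Subgroup.subset_closure rfl)
  -- the centre has at most four elements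
  have hZ4 : Nat.card Z ≤ 4 := by
    obtain ⟨ψ, -, hle, hθ⟩ := CfsgLib.ChevMult.exists_torusLift C hadj
    have hd := C.card_diagonal CfsgLib.ChevStr.smithD4
    rw [C.diagonalSubgroup_eq, h3] at hd
    have h1 := (C.R.torus (F := F)).ker.card_mul_index
    rw [Subgroup.index_ker] at h1
    have hdom : Nat.card (Fin chevD4.rank → Fˣ) = 2 ^ 4 := by
      rw [Nat.card_pi, Finset.prod_const, Finset.card_univ, Fintype.card_fin, Nat.card_units,
        Nat.card_eq_fintype_card, h3, show chevD4.rank = 4 by decide +kernel]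
    rw [hdom] at h1
    have hd4 : Nat.card (C.R.torus (F := F)).range = 4 := by
      have hr : chevD4.rank = 4 := by decide +kernel
      rw [Finset.prod_fin_eq_prod_range] at hd
      generalize Nat.card (C.R.torus (F := F)).range = N at hd ⊢
      simp [hr, Finset.prod_range_succ] at hd
      omega
    rw [hd4] at h1
    have hk4 : Nat.card (C.R.torus (F := F)).ker = 4 := by omega
    let f : (C.R.torus (F := F)).ker → Z := fun c => ⟨ψ c.1, by
      rw [← hker, CfsgLib.ChevCover.ker_groupHom_eq, MonoidHom.mem_ker, ← MonoidHom.comp_apply, hθ]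
      exact c.2⟩
    rw [← hk4]
    refine Nat.card_le_card_of_surjective f fun z => ?_
    have hz : (z : chevD4.SteinbergGroup F) ∈ (CfsgLib.ChevCover.groupHom C).ker := by
      rw [hker]; exact z.2
    obtain ⟨c, hc⟩ := hle hz
    refine ⟨⟨c, ?_⟩, Subtype.ext hc⟩
    rw [MonoidHom.mem_ker, ← hθ, MonoidHom.comp_apply, hc]
    rwa [CfsgLib.ChevCover.ker_groupHom_eq, MonoidHom.mem_ker] at hz
  have hlt : Nat.card φ.ker < Nat.card Z := by
    have hxk : x ∉ φ.ker := fun h => hw1 (by rw [← hx]; exact h)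
    exact lt_of_le_of_ne (Subgroup.card_le_of_le hkerZ) fun h =>
      hxk (by rw [Subgroup.eq_of_le_of_card_ge hkerZ h.ge]; exact hxZ)
  have hdvd : Nat.card φ.ker ∣ Nat.card Z := Subgroup.card_dvd_of_le hkerZ
  obtain ⟨k, hk'⟩ := hdvd
  have : 2 ≤ k := by
    by_contra hk2
    push Not at hk2
    interval_cases k
    · have : 0 < Nat.card Z := Nat.card_pos
      omega
    · omega
  have h := Nat.mul_le_mul_left (Nat.card φ.ker) this
  omega

/-- The bound for all the groups. -/
theorem multLE_qOdd (hodd : Odd (Fintype.card F)) {m : ℕ} (hm : 3 ≤ m)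
    (hexc : ¬ (m = 3 ∧ Fintype.card F = 3)) : MultLE (qOdd m F) := by
  have h2 : (2 : F) ≠ 0 := two_ne_zero_of_odd rfl hodd
  rcases le_or_gt 5 (Fintype.card F) with h5 | h5
  · clear hexc
    induction m, hm using Nat.le_induction with
    | base => exact multLE_qOdd_of_plus h2 le_rfl (Or.inr h5) (multLE_plus_three h5)
    | succ k hk ih => exact multLE_qOdd_of_plus h2 (by omega) (Or.inr h5) (multLE_plus_of_qOdd h2 hk ih)
  · have h3 : Fintype.card F = 3 := by
      have := Nat.odd_iff.1 hodd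
      have := Fintype.one_lt_card (α := F)
      omega
    have h4 : 4 ≤ m := by
      by_contra h
      exact hexc ⟨by omega, h3⟩
    clear hexc hm
    induction m, h4 using Nat.le_induction with
    | base => exact multLE_qOdd_of_plus h2 (by omega) (Or.inl le_rfl) (multLE_plus_four h3)
    | succ k hk ih =>
      exact multLE_qOdd_of_plus h2 (by omega) (Or.inl (by omega)) (multLE_plus_of_qOdd h2 (by omega) ih)

end CfsgLib.OddMult
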