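import Cfsg.Agent.Lib.OddMult.Cover
import Cfsg.Agent.Helper57Spinor
import Cfsg.Agent.Lib.SchurCover.Perfect
import Cfsg.Agent.Lib.ChevMult.SplitMult

/-!
The bound two on the kernel of perfect central extensions of `Ω` passes from the stabiliser of a
vector of value one to the whole group.
-/

set_option autoImplicit false
set_option linter.unusedSectionVars false

namespace CfsgLib.OddMult

open Matrix QuadraticMap CfsgLib.Orth Cfsg.Agent.Spinor57

universe u

variable {ι κ : Type} [Fintype ι] [DecidableEq ι] [Fintype κ] [DecidableEq κ] {F : Type u} [Field F]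
  [Fintype F] {Q : QuadraticForm F (ι → F)} {Q' : QuadraticForm F (κ → F)}

/-- Kernels of finite perfect central extensions of `Ω(Q)` have at most two elements. -/
def MultLE (Q : QuadraticForm F (ι → F)) : Prop :=
  ∀ (E : Type u) [Group E] [Finite E] (π : E →* O Q), π.range = commutator (O Q) →
    π.ker ≤ Subgroup.center E → commutator E = ⊤ → Nat.card π.ker ≤ 2

/-- From the stabiliser to the whole group. -/
theorem MultLE.of_split (hQ : Q.polarBilin.Nondegenerate) (h2 : (2 : F) ≠ 0)
    (hn : 7 ≤ Fintype.card ι) (hn' : 8 ≤ Fintype.card ι ∨ 5 ≤ Fintype.card F)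
    (hκ : 6 ≤ Fintype.card κ) (S : Split Q Q') {e0 : ι → F} (he0 : Q e0 = 1)
    (hker : ∀ v, S.p v = 0 ↔ v ∈ Submodule.span F ({e0} : Set (ι → F))) (h : MultLE Q') :
    MultLE Q := by
  classical
  intro E _ _ π hrange hc hperf
  have hD := ker_le_DE π e0 hc hQ h2 hn hn' hrange he0 hperf
  set D := DE π e0 with hDdef
  -- the derived group is perfect
  have hP : stE π e0 ≤ D := fun g hg => by
    obtain ⟨d, hd, z, hz, rfl⟩ := exists_central_of_stE π e0 hc hQ h2 hn hn' hrange he0 hg
    exact mul_mem hd (hD hz)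
  have hPD : stE π e0 = D := le_antisymm hP (DE_le π e0)
  have hperfD : commutator D = ⊤ := by
    apply Subgroup.map_injective D.subtype_injective
    rw [_root_.commutator_def, Subgroup.map_commutator, ← MonoidHom.range_eq_map,
      Subgroup.range_subtype]
    conv_rhs => rw [hDdef, DE, hPD]
  have hmem : ∀ g : D, π (g : E) ∈ S.emb.range := fun g => by
    refine S.mem_range hQ fun v hv => ?_
    obtain ⟨t, rfl⟩ := Submodule.mem_span_singleton.1 ((hker v).1 hv)
    rw [map_smul, (DE_le π e0 g.2 : app (π g) e0 = e0)]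
  let e := MonoidHom.ofInjective S.emb_injective
  let ψ : D →* O Q' := e.symm.toMonoidHom.comp ((π.comp D.subtype).codRestrict S.emb.range hmem)
  have hψ : ∀ g : D, S.emb (ψ g) = π (g : E) := fun g =>
    congrArg Subtype.val (e.apply_symm_apply ⟨π (g : E), hmem g⟩)
  have hrange' : ψ.range = commutator (O Q') := by
    ext y
    rw [← Subgroup.mem_map_iff_mem S.emb_injective, ← Subgroup.mem_map_iff_mem (f := S.emb)
      S.emb_injective (K := commutator (O Q')), S.map_omega hQ h2]
    constructor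
    · rintro ⟨_, ⟨g, rfl⟩, hy⟩
      rw [← hy, hψ]
      refine ⟨hrange ▸ ⟨_, rfl⟩, fun v hv => ?_⟩
      obtain ⟨t, rfl⟩ := Submodule.mem_span_singleton.1 ((hker v).1 hv)
      rw [map_smul, (DE_le π e0 g.2 : app (π g) e0 = e0)]
    · rintro ⟨hy, hfix⟩
      rw [← hrange] at hy
      obtain ⟨g, hg⟩ := hy
      have hgD : g ∈ D := hP (by
        rw [mem_stE, hg]
        exact hfix _ ((hker e0).2 (Submodule.subset_span rfl)))
      exact ⟨ψ ⟨g, hgD⟩, ⟨_, rfl⟩, by rw [hψ]; exact hg⟩
  have hψker : ∀ g : D, g ∈ ψ.ker ↔ (g : E) ∈ π.ker := fun g => by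
    rw [MonoidHom.mem_ker, MonoidHom.mem_ker, ← hψ, ← map_one S.emb, S.emb_injective.eq_iff]
  have hψc : ψ.ker ≤ Subgroup.center D := fun g hg => Subgroup.mem_center_iff.2 fun x =>
    Subtype.ext (Subgroup.mem_center_iff.1 (hc ((hψker g).1 hg)) (x : E))
  refine le_trans (le_of_eq (Nat.card_congr ?_)) (h D ψ hrange' hψc hperfD)
  exact
    { toFun := fun z => ⟨⟨z.1, hD z.2⟩, (hψker _).2 z.2⟩
      invFun := fun z => ⟨z.1.1, (hψker _).1 z.2⟩
      left_inv := fun _ => rfl
      right_inv := fun _ => rfl }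

/-- The bound from a cover all of whose central extensions split. -/
theorem MultLE.of_cover {Δ : Type u} [Group Δ] [Finite Δ]
    (hsplit : CfsgLib.ChevMult.SplitsAll Δ) (φ : Δ →* O Q) (hφ : φ.range = commutator (O Q))
    (hker : Nat.card φ.ker ≤ 2) : MultLE Q := by
  classical
  intro E _ _ π hrange hc hperf
  have hπ0 : ∀ g, π g ∈ commutator (O Q) := fun g => hrange ▸ ⟨g, rfl⟩
  have hφ0 : ∀ g, φ g ∈ commutator (O Q) := fun g => hφ ▸ ⟨g, rfl⟩
  let π₀ := π.codRestrict _ hπ0
  let φ₀ := φ.codRestrict _ hφ0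
  have hsurj : Function.Surjective π₀ := fun y => by
    have hy : (y : O Q) ∈ π.range := by rw [hrange]; exact y.2
    obtain ⟨g, hg⟩ := hy
    exact ⟨g, Subtype.ext hg⟩
  have hc₀ : π₀.ker ≤ Subgroup.center E := fun g hg =>
    hc (congrArg Subtype.val (MonoidHom.mem_ker.1 hg))
  have : Finite ↥(CfsgLib.SchurCover.fibre φ₀ π₀) := Finite.of_injective _ Subtype.val_injective
  obtain ⟨τ, hτ⟩ := hsplit _ (⟨CfsgLib.SchurCover.fibreFst φ₀ π₀,
    CfsgLib.SchurCover.fibreFst_surjective φ₀ hsurj,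
    CfsgLib.SchurCover.ker_fibreFst_le_center φ₀ hc₀⟩ : CfsgLib.ChevMult.CExt _ Δ)
  set t : Δ →* E := (CfsgLib.SchurCover.fibreSnd φ₀ π₀).comp τ with ht
  have hst : ∀ g, π (t g) = φ g := fun g => by
    have : π₀ (t g) = φ₀ g := by
      rw [ht, MonoidHom.comp_apply, ← CfsgLib.SchurCover.fibre_rel]
      exact congrArg φ₀ (DFunLike.congr_fun hτ g)
    exact congrArg Subtype.val this
  have hrt : t.range = ⊤ := CfsgLib.ChevMult.top_le_of_central hperf hc fun g => by
    obtain ⟨y, hy⟩ : π g ∈ φ.range := by rw [hφ]; exact hπ0 g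
    exact ⟨t y, ⟨y, rfl⟩, (hst y).trans hy⟩
  refine le_trans ?_ hker
  let f : φ.ker → π.ker := fun k => ⟨t k.1, by rw [MonoidHom.mem_ker, hst]; exact k.2⟩
  refine Nat.card_le_card_of_surjective f fun z => ?_
  obtain ⟨y, hy⟩ : (z : E) ∈ t.range := by rw [hrt]; exact Subgroup.mem_top _
  exact ⟨⟨y, by rw [MonoidHom.mem_ker, ← hst, hy]; exact z.2⟩, Subtype.ext hy⟩

variable (F)

/-- `qOdd m ≅ ⟨1⟩ ⊥ plusQ m`. -/
noncomputable def oddSplit (m : ℕ) : Split (qOdd m F) (plusQ m F) where
  j :=
    { toFun := fun x => Sum.elim (fun _ => 0) x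
      map_add' := fun x y => funext fun i => by rcases i with i | i <;> simp
      map_smul' := fun c x => funext fun i => by rcases i with i | i <;> simp }
  p := LinearMap.funLeft F F Sum.inr
  c := 1
  c_ne := one_ne_zero
  pj x := funext fun i => rfl
  perp x v := by simp [polar_qOdd, LinearMap.funLeft]
  Qj x := by simp [qOdd_coe, plusQ_coe, Cfsg.quadFormOdd, Cfsg.quadFormPlus]

theorem oddSplit_p (m : ℕ) (v : Unit ⊕ (Fin m ⊕ Fin m) → F) :
    (oddSplit F m).p v = 0 ↔
      v ∈ Submodule.span F ({Pi.single (Sum.inl ()) 1} : Set (Unit ⊕ (Fin m ⊕ Fin m) → F)) := by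
  rw [Submodule.mem_span_singleton]
  constructor
  · intro h
    refine ⟨v (Sum.inl ()), funext fun i => ?_⟩
    rcases i with i | i
    · simp
    · simpa [LinearMap.funLeft, oddSplit] using (congrFun h i).symm
  · rintro ⟨a, rfl⟩
    funext i
    simp [oddSplit, LinearMap.funLeft]

/-- `plusQ (k+1) ≅ ⟨1⟩ ⊥ -qOdd k`. -/
noncomputable def plusSplit (h2 : (2 : F) ≠ 0) (k : ℕ) : Split (plusQ (k + 1) F) (qOdd k F) where
  j :=
    { toFun := fun x => Sum.elim (Fin.cases (x (.inl ())) fun i => x (.inr (.inl i)))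
        (Fin.cases (-x (.inl ())) fun i => -x (.inr (.inr i)))
      map_add' := fun x y => funext fun i => by
        rcases i with i | i <;> refine Fin.cases ?_ (fun j => ?_) i <;> simp <;> ring
      map_smul' := fun c x => funext fun i => by
        rcases i with i | i <;> refine Fin.cases ?_ (fun j => ?_) i <;> simp }
  p :=
    { toFun := fun v => Sum.elim (fun _ => (v (.inl 0) - v (.inr 0)) / 2)
        (Sum.elim (fun i => v (.inl i.succ)) fun i => -v (.inr i.succ))
      map_add' := fun x y => funext fun i => by rcases i with i | i | i <;> simp <;> ring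
      map_smul' := fun c x => funext fun i => by rcases i with i | i | i <;> simp <;> ring }
  c := -1
  c_ne := neg_ne_zero.2 one_ne_zero
  pj x := funext fun i => by
    rcases i with i | i | i <;> simp
    field_simp
    ring
  perp x v := by
    simp only [polar_plusQ, Fin.sum_univ_succ]
    simp
    field_simp
    ring
  Qj x := by
    simp [qOdd_coe, plusQ_coe, Cfsg.quadFormOdd, Cfsg.quadFormPlus, Fin.sum_univ_succ]
    ring

theorem plusSplit_p (h2 : (2 : F) ≠ 0) (k : ℕ) (v : Fin (k + 1) ⊕ Fin (k + 1) → F) :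
    (plusSplit F h2 k).p v = 0 ↔ v ∈ Submodule.span F
      ({Pi.single (Sum.inl 0) 1 + Pi.single (Sum.inr 0) 1} : Set (Fin (k + 1) ⊕ Fin (k + 1) → F)) := by
  rw [Submodule.mem_span_singleton]
  constructor
  · intro h
    have h0 : v (.inl 0) = v (.inr 0) := by
      have := congrFun h (.inl ())
      simpa [plusSplit, h2, sub_eq_zero] using this
    refine ⟨v (.inl 0), funext fun i => ?_⟩
    rcases i with i | i <;> refine Fin.cases ?_ (fun j => ?_) i
    · simp
    · simpa [plusSplit] using (congrFun h (.inr (.inl j))).symm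
    · simp [h0]
    · simpa [plusSplit, eq_comm] using congrFun h (.inr (.inr j))
  · rintro ⟨a, rfl⟩
    funext i
    rcases i with i | i | i <;> simp [plusSplit, Fin.succ_ne_zero]

variable {F}

/-- The induction steps. -/
theorem multLE_qOdd_of_plus (h2 : (2 : F) ≠ 0) {m : ℕ} (hm : 3 ≤ m)
    (hm' : 4 ≤ m ∨ 5 ≤ Fintype.card F) (h : MultLE (plusQ m F)) : MultLE (qOdd m F) :=
  MultLE.of_split (qOdd_nondegenerate h2) h2 (by simp; omega) (by simp; omega) (by simp; omega)
    (oddSplit F m) (by simp [qOdd_coe, Cfsg.quadFormOdd]) (oddSplit_p F m) h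

theorem multLE_plus_of_qOdd (h2 : (2 : F) ≠ 0) {k : ℕ} (hk : 3 ≤ k) (h : MultLE (qOdd k F)) :
    MultLE (plusQ (k + 1) F) :=
  MultLE.of_split (plusQ_nondegenerate _) h2 (by simp; omega) (Or.inl (by simp; omega))
    (by simp; omega) (plusSplit F h2 k)
    (by simp [plusQ_coe, Cfsg.quadFormPlus, Pi.single_apply]) (plusSplit_p F h2 k) h

end CfsgLib.OddMult
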