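import Cfsg.Agent.Lib.OddMult.Geom
import Cfsg.Agent.Lib.ChevMult.CentralExt

/-!
Perfect central extensions `π : E → Ω(Q)`: the kernel lies in the derived group of the preimage of the
stabiliser of a vector of value one. The covering of the orthogonality graph on such vectors by the
cosets of that derived group has a section because the graph is simply connected through triangles.
-/

set_option autoImplicit false
set_option linter.unusedSectionVars false

namespace CfsgLib.OddMult

open Matrix QuadraticMap CfsgLib.Orth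
open scoped commutatorElement

variable {ι : Type} [Fintype ι] [DecidableEq ι] {F : Type*} [Field F] [Fintype F]
  {Q : QuadraticForm F (ι → F)} {E : Type*} [Group E] (π : E →* O Q)

/-- The preimage of the stabiliser of `v`. -/
def stE (v : ι → F) : Subgroup E where
  carrier := {g | app (π g) v = v}
  one_mem' := by simp
  mul_mem' := by intro a b ha hb; simp_all
  inv_mem' := by
    intro a ha
    show app (π a⁻¹) v = v
    rw [Set.mem_setOf_eq] at ha
    conv_lhs => rw [← ha, map_inv, app_inv_app]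

theorem mem_stE {v : ι → F} {g : E} : g ∈ stE π v ↔ app (π g) v = v := Iff.rfl

variable (e0 : ι → F)

/-- The derived group of the preimage of the stabiliser. -/
abbrev DE : Subgroup E := ⁅stE π e0, stE π e0⁆

theorem DE_le : DE π e0 ≤ stE π e0 := Subgroup.commutator_le_self _

/-- The vector under a coset. -/
noncomputable def pt (x : E ⧸ DE π e0) : ι → F := app (π x.out) e0

theorem pt_mk (g : E) : pt π e0 (g : E ⧸ DE π e0) = app (π g) e0 := by
  obtain ⟨h, hh⟩ := QuotientGroup.mk_out_eq_mul (DE π e0) g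
  rw [pt, hh, map_mul, app_mul, DE_le π e0 h.2]

theorem pt_smul (g : E) (x : E ⧸ DE π e0) : pt π e0 (g • x) = app (π g) (pt π e0 x) := by
  induction x using QuotientGroup.induction_on with
  | H h => rw [MulAction.Quotient.smul_coe, smul_eq_mul, pt_mk, pt_mk, map_mul, app_mul]

theorem smul_coe (g h : E) : g • (h : E ⧸ DE π e0) = ((g * h : E) : E ⧸ DE π e0) :=
  MulAction.Quotient.smul_coe _ g h

/-- Commutators of elements fixing `v` fix the cosets over `v`. -/
theorem fix_of_comm {v : ι → F} {c : E} (hc : c ∈ ⁅stE π v, stE π v⁆) {x : E ⧸ DE π e0}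
    (hx : pt π e0 x = v) : c • x = x := by
  induction x using QuotientGroup.induction_on with
  | H h =>
    rw [pt_mk] at hx
    have hle : ⁅stE π v, stE π v⁆ ≤ (DE π e0).comap (MulAut.conj h⁻¹).toMonoidHom := by
      have hm : ∀ a ∈ stE π v, h⁻¹ * a * h ∈ stE π e0 := fun a ha => by
        rw [mem_stE] at ha ⊢
        rw [map_mul, map_mul, app_mul, app_mul, hx, ha, map_inv, ← hx, app_inv_app]
      rw [Subgroup.commutator_le]
      intro a ha b hb
      show MulAut.conj h⁻¹ ⁅a, b⁆ ∈ DE π e0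
      rw [map_commutatorElement]
      exact Subgroup.commutator_mem_commutator (by simpa using hm a ha) (by simpa using hm b hb)
    rw [smul_coe, QuotientGroup.eq]
    have h1 : h⁻¹ * c * h ∈ DE π e0 := by simpa using hle hc
    simpa [mul_assoc] using (DE π e0).inv_mem h1

variable (hc : π.ker ≤ Subgroup.center E)
include hc

theorem central_smul {z : E} (hz : z ∈ π.ker) (h : E) :
    z • (h : E ⧸ DE π e0) = ((h * z : E) : E ⧸ DE π e0) := by
  rw [smul_coe, Subgroup.mem_center_iff.1 (hc hz) h]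

theorem central_fix_iff {z : E} (hz : z ∈ π.ker) (x : E ⧸ DE π e0) :
    z • x = x ↔ z ∈ DE π e0 := by
  induction x using QuotientGroup.induction_on with
  | H h =>
    rw [central_smul π e0 hc hz, QuotientGroup.eq, _root_.mul_inv_rev, mul_assoc, inv_mul_cancel,
      mul_one]
    exact inv_mem_iff

theorem smul_central_comm {z : E} (hz : z ∈ π.ker) (g : E) (x : E ⧸ DE π e0) :
    g • z • x = z • g • x := by
  rw [smul_smul, smul_smul, Subgroup.mem_center_iff.1 (hc hz) g]

variable (hQ : Q.polarBilin.Nondegenerate) (h2 : (2 : F) ≠ 0)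
  (hn : 7 ≤ Fintype.card ι) (hn' : 8 ≤ Fintype.card ι ∨ 5 ≤ Fintype.card F)
  (hrange : π.range = commutator (O Q))
include hQ h2 hn hn' hrange

/-- Stabilisers of at most two orthonormal vectors are perfect. -/
theorem lift_stab {k : ℕ} (hk : k ≤ 2) (x : Fin k → ι → F) (hx : ∀ i, Q (x i) = 1)
    (hxo : ∀ i l, i ≠ l → polar Q (x i) (x l) = 0) {h : E} (hh : h ∈ ⨅ i, stE π (x i)) :
    ∃ c ∈ ⁅⨅ i, stE π (x i), ⨅ i, stE π (x i)⁆, π c = π h := by
  classical
  obtain ⟨Q', S, -, hker⟩ := exists_split hQ h2 x (fun i => by rw [hx]; exact one_ne_zero) hxo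
  have hQ' := S.nondegenerate hQ
  have hperf := omega_perfect' (Q := Q') hQ' h2 (by
    simp only [Fintype.card_fin]
    rcases hn' with h8 | hq
    · exact Or.inl (by omega)
    · exact Or.inr ⟨by omega, hq⟩)
  set L := ⨅ i, stE π (x i) with hL
  have hmem : ∀ g, g ∈ L ↔ ∀ i, app (π g) (x i) = x i := fun g => by
    simp [hL, Subgroup.mem_iInf, mem_stE]
  have hle : (commutator (O Q')).map S.emb ≤ L.map π := by
    intro g hg
    obtain ⟨h1, h2'⟩ := (S.map_omega hQ h2).1 hg
    rw [← hrange] at h1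
    obtain ⟨y, rfl⟩ := h1
    exact ⟨y, (hmem y).2 fun i => h2' _ ((hker _).2 (Submodule.subset_span ⟨i, rfl⟩)), rfl⟩
  have hπh : π h ∈ (commutator (O Q')).map S.emb := by
    refine (S.map_omega hQ h2).2 ⟨hrange ▸ ⟨h, rfl⟩, fun v hv => ?_⟩
    have hv' := (hker v).1 hv
    clear hv
    induction hv' using Submodule.span_induction with
    | mem u hu => obtain ⟨i, rfl⟩ := hu; exact (hmem h).1 hh i
    | zero => exact map_zero _
    | add u w _ _ hu hw => rw [map_add, hu, hw]
    | smul a u _ hu => rw [map_smul, hu]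
  have e : (commutator (O Q')).map S.emb ≤ ⁅L, L⁆.map π := by
    have h' : ⁅commutator (O Q'), commutator (O Q')⁆ = commutator (O Q') := by
      rw [← Subgroup.range_subtype (commutator (O Q')), MonoidHom.range_eq_map,
        ← Subgroup.map_commutator, ← _root_.commutator_def, hperf]
    rw [Subgroup.map_commutator, ← h', Subgroup.map_commutator]
    exact Subgroup.commutator_mono hle hle
  exact e hπh

variable (he0 : Q e0 = 1)
include he0

theorem exists_central_of_stE {h : E} (hh : h ∈ stE π e0) :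
    ∃ d ∈ DE π e0, ∃ z ∈ π.ker, h = d * z := by
  obtain ⟨c, hc', hπ⟩ := lift_stab π hc hQ h2 hn hn' hrange (k := 1) (by omega) ![e0]
    (fun _ => by simpa using he0) (fun i l hil => absurd (Subsingleton.elim i l) hil) (h := h)
    (by simpa [Subgroup.mem_iInf] using hh)
  have hle : (⨅ i, stE π (![e0] i)) ≤ stE π e0 := iInf_le (fun i => stE π (![e0] i)) 0
  exact ⟨c, Subgroup.commutator_mono hle hle hc', c⁻¹ * h,
    by rw [MonoidHom.mem_ker, map_mul, map_inv, hπ, inv_mul_cancel], by group⟩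

/-- Two cosets over the same vector differ by a central element. -/
theorem fibre {x y : E ⧸ DE π e0} (h : pt π e0 x = pt π e0 y) : ∃ z ∈ π.ker, y = z • x := by
  induction x using QuotientGroup.induction_on with
  | H a => induction y using QuotientGroup.induction_on with
    | H b =>
      rw [pt_mk, pt_mk] at h
      have hab : a⁻¹ * b ∈ stE π e0 := by
        rw [mem_stE, map_mul, app_mul, ← h, map_inv, app_inv_app]
      obtain ⟨d, hd, z, hz, hdz⟩ := exists_central_of_stE π e0 hc hQ h2 hn hn' hrange he0 hab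
      refine ⟨z, hz, ?_⟩
      rw [central_smul π e0 hc hz, eq_comm, QuotientGroup.eq, _root_.mul_inv_rev, mul_assoc, hdz,
        Subgroup.mem_center_iff.1 (hc hz) d, inv_mul_cancel_left]
      exact hd

/-- The edges lifted from one of them. -/
theorem exists_edges {e1 : ι → F} (he1 : Q e1 = 1) (h01 : polar Q e0 e1 = 0) {γ : E ⧸ DE π e0}
    (hγ : pt π e0 γ = e1) :
    ∃ nx : (E ⧸ DE π e0) → (ι → F) → E ⧸ DE π e0,
      nx ((1 : E) : E ⧸ DE π e0) e1 = γ ∧
      (∀ x w, Q w = 1 → polar Q (pt π e0 x) w = 0 → pt π e0 (nx x w) = w) ∧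
      (∀ g x w, Q w = 1 → polar Q (pt π e0 x) w = 0 → g • nx x w = nx (g • x) (app (π g) w)) := by
  classical
  have hpt1 : pt π e0 ((1 : E) : E ⧸ DE π e0) = e0 := by rw [pt_mk, map_one, app_one]
  have hQpt : ∀ x : E ⧸ DE π e0, Q (pt π e0 x) = 1 := fun x => by rw [pt, Q_app, he0]
  have ex : ∀ x w, Q w = 1 → polar Q (pt π e0 x) w = 0 →
      ∃ g : E, g • ((1 : E) : E ⧸ DE π e0) = x ∧ app (π g) e1 = w := by
    intro x w hw hxw
    obtain ⟨g, hg, hgi⟩ := exists_move hQ h2 (k := 2) (by omega) ![e0, e1] ![pt π e0 x, w]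
      (fun i => by fin_cases i <;> simp [he0, he1]) (fun i => by fin_cases i <;> simp [hQpt, hw])
      (fun i l hil => by
        fin_cases i <;> fin_cases l
        exacts [absurd rfl hil, h01, (polar_comm (⇑Q) e1 e0).trans h01, absurd rfl hil])
      (fun i l hil => by
        fin_cases i <;> fin_cases l
        exacts [absurd rfl hil, hxw, (polar_comm (⇑Q) w _).trans hxw, absurd rfl hil])
    rw [← hrange] at hg
    obtain ⟨g, rfl⟩ := hg
    have h0 : app (π g) e0 = pt π e0 x := hgi 0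
    have h1 : app (π g) e1 = w := hgi 1
    obtain ⟨z, hz, hzx⟩ := fibre π e0 hc hQ h2 hn hn' hrange he0
      (x := g • ((1 : E) : E ⧸ DE π e0)) (y := x) (by rw [pt_smul, hpt1, h0])
    refine ⟨z * g, by rw [mul_smul, ← hzx], ?_⟩
    rw [map_mul, MonoidHom.mem_ker.1 hz, one_mul, h1]
  have uniq : ∀ g g' : E, g • ((1 : E) : E ⧸ DE π e0) = g' • ((1 : E) : E ⧸ DE π e0) →
      app (π g) e1 = app (π g') e1 → g • γ = g' • γ := by
    intro g g' hgg h1
    rw [smul_coe, smul_coe, mul_one, mul_one, QuotientGroup.eq] at hgg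
    set h := g⁻¹ * g' with hh
    have he : app (π h) e1 = e1 := by
      rw [hh, map_mul, app_mul, ← h1, map_inv, app_inv_app]
    obtain ⟨c, hc', hπ⟩ := lift_stab π hc hQ h2 hn hn' hrange (k := 2) le_rfl ![e0, e1]
      (fun i => by fin_cases i <;> simp [he0, he1])
      (fun i l hil => by
        fin_cases i <;> fin_cases l
        exacts [absurd rfl hil, h01, (polar_comm (⇑Q) e1 e0).trans h01, absurd rfl hil]) (h := h)
      (by
        rw [Subgroup.mem_iInf]; intro i; fin_cases i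
        exacts [DE_le π e0 hgg, he])
    have hl0 : (⨅ i, stE π (![e0, e1] i)) ≤ stE π e0 := iInf_le (fun i => stE π (![e0, e1] i)) 0
    have hl1 : (⨅ i, stE π (![e0, e1] i)) ≤ stE π e1 := iInf_le (fun i => stE π (![e0, e1] i)) 1
    have hz : c⁻¹ * h ∈ π.ker := by rw [MonoidHom.mem_ker, map_mul, map_inv, hπ, inv_mul_cancel]
    have hzD : c⁻¹ * h ∈ DE π e0 := mul_mem (inv_mem (Subgroup.commutator_mono hl0 hl0 hc')) hgg
    have hfix : h • γ = γ := by
      rw [show h = c * (c⁻¹ * h) by group, mul_smul, (central_fix_iff π e0 hc hz γ).2 hzD,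
        fix_of_comm π e0 (Subgroup.commutator_mono hl1 hl1 hc') hγ]
    rw [show g' = g * h by rw [hh, mul_inv_cancel_left], mul_smul, hfix]
  choose G hG1 hG2 using ex
  let nx : (E ⧸ DE π e0) → (ι → F) → E ⧸ DE π e0 := fun x w =>
    if h : Q w = 1 ∧ polar Q (pt π e0 x) w = 0 then G x w h.1 h.2 • γ else x
  have hnx : ∀ x w (hw : Q w = 1) (hxw : polar Q (pt π e0 x) w = 0) (g : E),
      g • ((1 : E) : E ⧸ DE π e0) = x → app (π g) e1 = w → nx x w = g • γ := by
    intro x w hw hxw g hg1 hg2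
    simp only [nx, dif_pos (And.intro hw hxw)]
    exact uniq _ _ ((hG1 x w hw hxw).trans hg1.symm) ((hG2 x w hw hxw).trans hg2.symm)
  refine ⟨nx, ?_, fun x w hw hxw => ?_, fun g x w hw hxw => ?_⟩
  · rw [hnx _ _ he1 (by rw [hpt1, h01]) 1 (one_smul _ _) (by rw [map_one, app_one]), one_smul]
  · rw [hnx x w hw hxw _ (hG1 x w hw hxw) (hG2 x w hw hxw), pt_smul, hγ, hG2 x w hw hxw]
  · rw [hnx x w hw hxw _ (hG1 x w hw hxw) (hG2 x w hw hxw), smul_smul,
      hnx (g • x) _ (by rw [Q_app, hw]) (by rw [pt_smul, polar_app, hxw])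
        (g * G x w hw hxw) (by rw [mul_smul, hG1 x w hw hxw])
        (by rw [map_mul, app_mul, hG2 x w hw hxw])]

/-- Edge lifts under which triangles close. -/
theorem exists_edges' :
    ∃ nx : (E ⧸ DE π e0) → (ι → F) → E ⧸ DE π e0,
      (∀ x w, Q w = 1 → polar Q (pt π e0 x) w = 0 → pt π e0 (nx x w) = w) ∧
      (∀ g x w, Q w = 1 → polar Q (pt π e0 x) w = 0 → g • nx x w = nx (g • x) (app (π g) w)) ∧
      (∀ x v w, Q v = 1 → Q w = 1 → polar Q (pt π e0 x) v = 0 → polar Q (pt π e0 x) w = 0 →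
        polar Q v w = 0 → nx (nx x v) w = nx x w) := by
  classical
  set one : E ⧸ DE π e0 := ((1 : E) : E ⧸ DE π e0) with hone
  have hpt1 : pt π e0 one = e0 := by rw [hone, pt_mk, map_one, app_one]
  obtain ⟨e1, he1, h01, -⟩ := exists_nbr hQ h2 he0 hn e0
  obtain ⟨e2, he2, h02, h12⟩ := exists_nbr hQ h2 he0 hn e1
  obtain ⟨g1, hg1, hg1e⟩ := exists_move hQ h2 (k := 1) (by omega) ![e0] ![e1]
    (fun _ => by simpa using he0) (fun _ => by simpa using he1)
    (fun i l h => absurd (Subsingleton.elim i l) h) (fun i l h => absurd (Subsingleton.elim i l) h)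
  rw [← hrange] at hg1
  obtain ⟨g1, rfl⟩ := hg1
  have hγ0 : pt π e0 ((g1 : E) : E ⧸ DE π e0) = e1 := by rw [pt_mk]; exact hg1e 0
  obtain ⟨nx, hnxγ, hnxpt, hnxeq⟩ :=
    exists_edges π e0 hc hQ h2 hn hn' hrange he0 he1 h01 hγ0
  have h21 : polar Q e2 e1 = 0 := (polar_comm (⇑Q) e2 e1).trans h12
  have hp2 : pt π e0 (nx one e2) = e2 := hnxpt _ _ he2 (by rw [hpt1, h02])
  obtain ⟨z, hz, hzeq⟩ := fibre π e0 hc hQ h2 hn hn' hrange he0
    (x := (g1 : E ⧸ DE π e0)) (y := nx (nx one e2) e1)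
    (by rw [hγ0, hnxpt _ _ he1 (by rw [hp2, h21])])
  have hz' : z⁻¹ ∈ π.ker := inv_mem hz
  -- renormalise by `z⁻¹`
  have hptz : ∀ x : E ⧸ DE π e0, pt π e0 (z⁻¹ • x) = pt π e0 x := fun x => by
    rw [pt_smul, MonoidHom.mem_ker.1 hz', app_one]
  let mx : (E ⧸ DE π e0) → (ι → F) → E ⧸ DE π e0 := fun x w => z⁻¹ • nx x w
  have hpt' : ∀ x w, Q w = 1 → polar Q (pt π e0 x) w = 0 → pt π e0 (mx x w) = w := fun x w hw h =>
    (hptz _).trans (hnxpt x w hw h)
  have heq' : ∀ g x w, Q w = 1 → polar Q (pt π e0 x) w = 0 →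
      g • mx x w = mx (g • x) (app (π g) w) := fun g x w hw h => by
    show g • z⁻¹ • nx x w = _
    rw [smul_central_comm π e0 hc hz', hnxeq g x w hw h]
  have base : mx (mx one e2) e1 = mx one e1 := by
    show z⁻¹ • nx (z⁻¹ • nx one e2) e1 = z⁻¹ • nx one e1
    have h := hnxeq z⁻¹ (nx one e2) e1 he1 (by rw [hp2, h21])
    rw [MonoidHom.mem_ker.1 hz', app_one] at h
    rw [← h, hzeq, inv_smul_smul, ← hnxγ]
  refine ⟨mx, hpt', heq', fun x v w hv hw hxv hxw hvw => ?_⟩
  -- move the triangle onto the base one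
  have hQx : Q (pt π e0 x) = 1 := by rw [pt, Q_app, he0]
  obtain ⟨g, hg, hgi⟩ := exists_move hQ h2 (k := 3) (by omega) ![e0, e2, e1] ![pt π e0 x, v, w]
    (fun i => by fin_cases i <;> simp [he0, he1, he2])
    (fun i => by fin_cases i <;> simp [hQx, hv, hw])
    (fun i l hil => by
      fin_cases i <;> fin_cases l
      exacts [absurd rfl hil, h02, h01, (polar_comm (⇑Q) e2 e0).trans h02, absurd rfl hil, h21,
        (polar_comm (⇑Q) e1 e0).trans h01, h12, absurd rfl hil])
    (fun i l hil => by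
      fin_cases i <;> fin_cases l
      exacts [absurd rfl hil, hxv, hxw, (polar_comm (⇑Q) v _).trans hxv, absurd rfl hil, hvw,
        (polar_comm (⇑Q) w _).trans hxw, (polar_comm (⇑Q) w v).trans hvw, absurd rfl hil])
  rw [← hrange] at hg
  obtain ⟨g, rfl⟩ := hg
  have g0 : app (π g) e0 = pt π e0 x := hgi 0
  have g2 : app (π g) e2 = v := hgi 1
  have g1' : app (π g) e1 = w := hgi 2
  obtain ⟨y, hy, hyx⟩ := fibre π e0 hc hQ h2 hn hn' hrange he0 (x := g • one) (y := x)
    (by rw [pt_smul, hpt1, g0])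
  have hyg : ∀ u, app (π (y * g)) u = app (π g) u := fun u => by
    rw [map_mul, MonoidHom.mem_ker.1 hy, one_mul]
  have k1 := heq' (y * g) one e1 he1 (by rw [hpt1, h01])
  have k2 := heq' (y * g) one e2 he2 (by rw [hpt1, h02])
  have k3 := heq' (y * g) (mx one e2) e1 he1 (by rw [hpt' _ _ he2 (by rw [hpt1, h02]), h21])
  rw [mul_smul y g one, ← hyx, hyg] at k1 k2
  rw [k2, hyg, g2, g1', base, k1, g1'] at k3
  exact k3.symm

/-- The covering theorem. -/
theorem ker_le_DE (hperf : commutator E = ⊤) : π.ker ≤ DE π e0 := by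
  classical
  obtain ⟨nx, hpt, heq, htri⟩ := exists_edges' π e0 hc hQ h2 hn hn' hrange he0
  set one : E ⧸ DE π e0 := ((1 : E) : E ⧸ DE π e0) with hone
  have hpt1 : pt π e0 one = e0 := by rw [hone, pt_mk, map_one, app_one]
  have hQpt : ∀ x : E ⧸ DE π e0, Q (pt π e0 x) = 1 := fun x => by rw [pt, Q_app, he0]
  -- steps are injective on fibres
  have hinj : ∀ x x' w, Q w = 1 → polar Q (pt π e0 x) w = 0 → pt π e0 x' = pt π e0 x →
      nx x' w = nx x w → x' = x := by
    intro x x' w hw hxw hp h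
    obtain ⟨z, hz, rfl⟩ := fibre π e0 hc hQ h2 hn hn' hrange he0 hp.symm
    have h1 := heq z x w hw hxw
    rw [MonoidHom.mem_ker.1 hz, app_one, h] at h1
    exact (central_fix_iff π e0 hc hz x).2 ((central_fix_iff π e0 hc hz _).1 h1)
  -- reversal
  have hrev : ∀ x v, Q v = 1 → polar Q (pt π e0 x) v = 0 → nx (nx x v) (pt π e0 x) = x := by
    intro x v hv hxv
    obtain ⟨w, hw, hxw, -, hvw⟩ := exists_nbr₃ hQ h2 (hQpt x) hn (hQpt x) hv hxv
    have hwx : polar Q w (pt π e0 x) = 0 := (polar_comm (⇑Q) _ _).trans hxw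
    have hvx : polar Q v (pt π e0 x) = 0 := (polar_comm (⇑Q) _ _).trans hxv
    have hp : pt π e0 (nx x v) = v := hpt x v hv hxv
    have hp' : pt π e0 (nx (nx x v) (pt π e0 x)) = pt π e0 x := hpt _ _ (hQpt x) (by rw [hp, hvx])
    refine hinj x _ w hw hxw hp' ?_
    rw [htri (nx x v) (pt π e0 x) w (hQpt x) hw (by rw [hp, hvx]) (by rw [hp]; exact hvw) hxw,
      htri x v w hv hw hxv hxw hvw]
  -- the section
  have hnb : ∀ v, ∃ a, Q a = 1 ∧ polar Q e0 a = 0 ∧ polar Q v a = 0 :=
    exists_nbr hQ h2 he0 hn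
  choose a ha1 ha0 hav using hnb
  set s : (ι → F) → E ⧸ DE π e0 := fun v => nx (nx one (a v)) v with hs
  have hp1 : ∀ b, Q b = 1 → polar Q e0 b = 0 → pt π e0 (nx one b) = b := fun b hb hb0 =>
    hpt _ _ hb (by rw [hpt1, hb0])
  have hind : ∀ v b, Q v = 1 → Q b = 1 → polar Q e0 b = 0 → polar Q v b = 0 →
      s v = nx (nx one b) v := by
    intro v b hv hb hb0 hbv
    refine nbr_connected hQ h2 he0 hn hn' (ha1 v) (ha0 v) (hav v) hb hb0 hbv
      (fun b => s v = nx (nx one b) v) ?_ rfl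
    intro x y hx hy hx0 hxv hy0 hyv hxy h
    have hxv' : polar Q x v = 0 := (polar_comm (⇑Q) x v).trans hxv
    have hyv' : polar Q y v = 0 := (polar_comm (⇑Q) y v).trans hyv
    rw [h, ← htri (nx one x) y v hy hv (by rw [hp1 x hx hx0, hxy]) (by rw [hp1 x hx hx0, hxv']) hyv',
      htri one x y hx hy (by rw [hpt1, hx0]) (by rw [hpt1, hy0]) hxy]
  have hps : ∀ v, Q v = 1 → pt π e0 (s v) = v := fun v hv =>
    hpt _ _ hv (by rw [hp1 _ (ha1 v) (ha0 v), polar_comm, hav])
  have hedge : ∀ v w, Q v = 1 → Q w = 1 → polar Q v w = 0 → s w = nx (s v) w := by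
    intro v w hv hw hvw
    obtain ⟨b, hb, hb0, hbv, hbw⟩ := exists_nbr₃ hQ h2 he0 hn hv hw hvw
    have hbv' : polar Q b v = 0 := (polar_comm (⇑Q) b v).trans hbv
    have hbw' : polar Q b w = 0 := (polar_comm (⇑Q) b w).trans hbw
    rw [hind w b hw hb hb0 hbw, hind v b hv hb hb0 hbv,
      htri (nx one b) v w hv hw (by rw [hp1 b hb hb0, hbv']) (by rw [hp1 b hb hb0, hbw']) hvw]
  have hs0 : s e0 = one := by
    have := hrev one (a e0) (ha1 e0) (by rw [hpt1, ha0])
    rwa [hpt1] at this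
  -- elements preserving the section
  have hmove : ∀ g : E, g • one = s (app (π g) e0) → ∀ v, Q v = 1 →
      g • s v = s (app (π g) v) := by
    intro g hg v hv
    have hb' : polar Q (app (π g) e0) (app (π g) (a v)) = 0 := by rw [polar_app, ha0]
    have hQg : Q (app (π g) e0) = 1 := by rw [Q_app, he0]
    have hQb : Q (app (π g) (a v)) = 1 := by rw [Q_app, ha1]
    show g • nx (nx one (a v)) v = _
    rw [heq g _ v hv (by rw [hp1 _ (ha1 v) (ha0 v), polar_comm, hav]),
      heq g one (a v) (ha1 v) (by rw [hpt1, ha0]), hg, ← hedge _ _ hQg hQb hb',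
      ← hedge _ _ hQb (by rw [Q_app, hv]) (by rw [polar_app, polar_comm, hav])]
  let X : Subgroup E :=
    { carrier := {g | ∀ v, Q v = 1 → g • s v = s (app (π g) v)}
      one_mem' := fun v _ => by rw [map_one, app_one, one_smul]
      mul_mem' := fun {g h} hg hh v hv => by
        rw [mul_smul, hh v hv, hg _ (by rw [Q_app, hv]), map_mul, app_mul]
      inv_mem' := fun {g} hg v hv => by
        have h := hg (app (π g⁻¹) v) (by rw [Q_app, hv])
        rw [map_inv, app_app_inv] at h
        rw [inv_smul_eq_iff, ← h, map_inv] }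
  have hX : X = ⊤ := by
    rw [eq_top_iff, ← hperf, _root_.commutator_def, Subgroup.commutator_le]
    -- every element is one of `X` up to a central one
    have dec : ∀ g : E, ∃ x ∈ X, ∃ z ∈ π.ker, g = x * z := by
      intro g
      obtain ⟨x, hx⟩ := QuotientGroup.mk_surjective (s (app (π g) e0))
      have hxp : app (π x) e0 = app (π g) e0 := by
        rw [← pt_mk π e0 x, hx, hps _ (by rw [Q_app, he0])]
      have hxX : x ∈ X := hmove x (by
        rw [hone, smul_coe, mul_one, hxp, hx])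
      have hst : x⁻¹ * g ∈ stE π e0 := by
        rw [mem_stE, map_mul, app_mul, ← hxp, map_inv, app_inv_app]
      obtain ⟨d, hd, z, hz, hdz⟩ := exists_central_of_stE π e0 hc hQ h2 hn hn' hrange he0 hst
      have hdX : d ∈ X := hmove d (by
        rw [DE_le π e0 hd, hs0, hone, smul_coe, mul_one, QuotientGroup.eq, mul_one]
        exact inv_mem hd)
      exact ⟨x * d, mul_mem hxX hdX, z, hz, by rw [mul_assoc, ← hdz, mul_inv_cancel_left]⟩
    intro g _ h _
    obtain ⟨x, hx, z, hz, rfl⟩ := dec g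
    obtain ⟨y, hy, z', hz', rfl⟩ := dec h
    rw [CfsgLib.ChevMult.CExt.comm_central_left (hc hz),
      CfsgLib.ChevMult.CExt.comm_central_right (hc hz')]
    rw [commutatorElement_def]
    exact mul_mem (mul_mem (mul_mem hx hy) (inv_mem hx)) (inv_mem hy)
  intro z hz
  have h := (show z ∈ X from hX ▸ Subgroup.mem_top z) e0 he0
  rw [MonoidHom.mem_ker.1 hz, app_one, hs0] at h
  exact (central_fix_iff π e0 hc hz one).1 h

end CfsgLib.OddMult
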