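import Cfsg.Agent.Lib.OddMult.Split

/-!
The orthogonality graph on the vectors of value one: common neighbours, transitivity of `Ω` on
orthonormal families.
-/

set_option autoImplicit false
set_option linter.unusedSectionVars false

namespace CfsgLib.OddMult

open Matrix QuadraticMap CfsgLib.Orth

variable {ι : Type} [Fintype ι] [DecidableEq ι] {F : Type*} [Field F] [Fintype F]
  {Q : QuadraticForm F (ι → F)} (hQ : Q.polarBilin.Nondegenerate) (h2 : (2 : F) ≠ 0)

include hQ h2

/-- The complement of `k` vectors, spanning `j` orthogonal anisotropic ones, represents one. -/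
theorem exists_unit_perp {k j : ℕ} (x : Fin k → ι → F) (y : Fin j → ι → F)
    (hy : ∀ l, y l ∈ Submodule.span F (Set.range x)) (hy0 : ∀ l, Q (y l) ≠ 0)
    (ho : ∀ l l', l ≠ l' → polar Q (y l) (y l') = 0) (hn : 2 * k + 2 ≤ Fintype.card ι + j) :
    ∃ a, (∀ i, polar Q (x i) a = 0) ∧ Q a = 1 := by
  classical
  set U := Submodule.span F (Set.range x) with hU
  set W := LinearMap.BilinForm.orthogonal Q.polarBilin U with hW
  have hUW : LinearMap.BilinForm.orthogonal Q.polarBilin W = U :=
    LinearMap.BilinForm.orthogonal_orthogonal hQ (polarBilin_isRefl hQ) U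
  have hmem : ∀ {u w}, u ∈ U → w ∈ W → polar Q u w = 0 := fun hu hw =>
    LinearMap.BilinForm.mem_orthogonal_iff.1 hw _ hu
  have hdU : Module.finrank F U ≤ k := by
    have := finrank_range_le_card (R := F) x
    rwa [Set.finrank, Fintype.card_fin] at this
  have hdW : Module.finrank F W = Fintype.card ι - Module.finrank F U := by
    rw [hW, LinearMap.BilinForm.finrank_orthogonal hQ, Module.finrank_fintype_fun_eq_card]
  -- the radical
  have hrad : Module.finrank F (U ⊓ W : Submodule F (ι → F)) + j ≤ Module.finrank F U := by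
    have hyy : ∀ l, polar Q (y l) (y l) ≠ 0 := fun l => by
      rw [polar_self']; exact mul_ne_zero h2 (hy0 l)
    have hli : LinearIndependent F y := by
      rw [Fintype.linearIndependent_iff]
      intro c hc i
      have h := congrArg (fun z => Q.polarBilin (y i) z) hc
      simp only [map_sum, map_smul, polarBilin_apply_apply, map_zero, smul_eq_mul] at h
      rw [Finset.sum_eq_single i (fun l _ hl => by rw [ho i l (Ne.symm hl), mul_zero])
        (fun h' => absurd (Finset.mem_univ i) h')] at h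
      exact (mul_eq_zero.1 h).resolve_right (hyy i)
    have hdisj : Submodule.span F (Set.range y) ⊓ (U ⊓ W) = ⊥ := by
      rw [eq_bot_iff]
      rintro w ⟨hwy, -, hwW⟩
      obtain ⟨c, rfl⟩ := (Submodule.mem_span_range_iff_exists_fun F).1 hwy
      have hc : ∀ i, c i = 0 := fun i => by
        have h := hmem (hy i) hwW
        rw [← polarBilin_apply_apply Q (y i), map_sum] at h
        simp only [map_smul, polarBilin_apply_apply, smul_eq_mul] at h
        rw [Finset.sum_eq_single i (fun l _ hl => by rw [ho i l (Ne.symm hl), mul_zero])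
          (fun h' => absurd (Finset.mem_univ i) h')] at h
        exact (mul_eq_zero.1 h).resolve_right (hyy i)
      simp [hc]
    have h1 := Submodule.finrank_sup_add_finrank_inf_eq (Submodule.span F (Set.range y)) (U ⊓ W)
    rw [hdisj, finrank_bot, add_zero, finrank_span_eq_card hli, Fintype.card_fin] at h1
    have h3 : Submodule.span F (Set.range y) ⊔ (U ⊓ W) ≤ U :=
      sup_le (Submodule.span_le.2 (by rintro _ ⟨l, rfl⟩; exact hy l)) inf_le_left
    have := Submodule.finrank_mono h3
    omega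
  have hsub : ∀ {Z : Submodule F (ι → F)}, (∀ z ∈ Z, Q z = 0) → ∀ z ∈ Z, ∀ z' ∈ Z,
      polar Q z z' = 0 := fun hZ z hz z' hz' => by
    simp [QuadraticMap.polar, hZ z hz, hZ z' hz', hZ _ (Submodule.add_mem _ hz hz')]
  obtain ⟨a, ha, hQa⟩ : ∃ a ∈ W, Q a ≠ 0 := by
    by_contra hc
    push Not at hc
    have hle : W ≤ U ⊓ W := fun w hw => ⟨by
      rw [← hUW, SetLike.mem_coe, LinearMap.BilinForm.mem_orthogonal_iff]
      exact fun w' hw' => hsub hc w' hw' w hw, hw⟩
    have := Submodule.finrank_mono hle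
    omega
  set Wa := W ⊓ LinearMap.ker (Q.polarBilin a) with hWa
  have hdWa : Module.finrank F W ≤ Module.finrank F Wa + 1 := by
    have h := Submodule.finrank_sup_add_finrank_inf_eq W (LinearMap.ker (Q.polarBilin a))
    have h3 := LinearMap.finrank_range_add_finrank_ker (Q.polarBilin a)
    have h4 : Module.finrank F (LinearMap.range (Q.polarBilin a)) ≤ 1 := by
      simpa using Submodule.finrank_le (LinearMap.range (Q.polarBilin a))
    have h5 := Submodule.finrank_le (W ⊔ LinearMap.ker (Q.polarBilin a))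
    rw [← hWa] at h
    omega
  obtain ⟨b, hb, hQb⟩ : ∃ b ∈ Wa, Q b ≠ 0 := by
    by_contra hc
    push Not at hc
    have hle : Wa ≤ U ⊓ W := fun w hw => ⟨by
      rw [← hUW, SetLike.mem_coe, LinearMap.BilinForm.mem_orthogonal_iff]
      intro w' hw'
      show polar Q w' w = 0
      have haw : polar Q a w = 0 := hw.2
      have haa : polar Q a a ≠ 0 := by rw [polar_self']; exact mul_ne_zero h2 hQa
      set t := polar Q a w' * (polar Q a a)⁻¹ with ht
      have h' : w' - t • a ∈ Wa := ⟨Submodule.sub_mem _ hw' (Submodule.smul_mem _ _ ha), by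
        show polar Q a (w' - t • a) = 0
        rw [polar_sub_right, polar_smul_right, ht, smul_eq_mul, inv_mul_cancel_right₀ haa, sub_self]⟩
      rw [← sub_add_cancel w' (t • a), polar_add_left, polar_smul_left, haw, smul_zero, add_zero]
      exact hsub hc _ h' _ hw, hw.1⟩
    have := Submodule.finrank_mono hle
    omega
  obtain ⟨s, t, hst⟩ := exists_binary h2 hQa hQb (1 : F)
  refine ⟨s • a + t • b, fun i => hmem (Submodule.subset_span ⟨i, rfl⟩)
    (add_mem (W.smul_mem s ha) (W.smul_mem t hb.1)), ?_⟩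
  have hab : polar Q a b = 0 := hb.2
  simp only [QuadraticMap.map_add ⇑Q, QuadraticMap.map_smul, polar_smul_left, polar_smul_right, hab,
    smul_eq_mul]
  linear_combination hst

/-- `Ω` is transitive on orthonormal families leaving room. -/
theorem exists_move {k : ℕ} (hn : k + 2 ≤ Fintype.card ι) (x y : Fin k → ι → F)
    (hx : ∀ i, Q (x i) = 1) (hy : ∀ i, Q (y i) = 1) (hxo : ∀ i l, i ≠ l → polar Q (x i) (x l) = 0)
    (hyo : ∀ i l, i ≠ l → polar Q (y i) (y l) = 0) :
    ∃ g ∈ commutator (O Q), ∀ i, app g (x i) = y i := by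
  classical
  have hli : ∀ z : Fin k → ι → F, (∀ i, Q (z i) = 1) → (∀ i l, i ≠ l → polar Q (z i) (z l) = 0) →
      LinearIndependent F z := by
    intro z hz hzo
    rw [Fintype.linearIndependent_iff]
    intro c hc i
    have h := congrArg (fun w => Q.polarBilin (z i) w) hc
    simp only [map_sum, map_smul, polarBilin_apply_apply, map_zero, smul_eq_mul] at h
    rw [Finset.sum_eq_single i (fun l _ hl => by rw [hzo i l (Ne.symm hl), mul_zero])
      (fun h' => absurd (Finset.mem_univ i) h'), polar_self', hz, mul_one] at h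
    exact (mul_eq_zero.1 h).resolve_right h2
  obtain ⟨g, hg⟩ := CfsgLib.POmega.exists_O_map hQ x y (hli x hx hxo) (hli y hy hyo)
    (fun i => by rw [hx, hy]) (fun i l => by
      by_cases h : i = l
      · subst h; rw [polar_self', polar_self', hx, hy]
      · rw [hxo i l h, hyo i l h])
  obtain ⟨Q', S, hc, hker⟩ := exists_split hQ h2 x (fun i => by rw [hx]; exact one_ne_zero) hxo
  obtain ⟨d, hd⟩ := FiniteField.exists_nonsquare (F := F) (fun hch => by
    have : CharP F 2 := ringChar.of_eq hch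
    exact h2 CharTwo.two_eq_zero)
  have hd0 : d ≠ 0 := ne_zero_of_not_isSquare h2 hd
  have hQ' := S.nondegenerate hQ
  obtain ⟨u, hu⟩ := exists_value_ne hQ' h2 (by simp; omega) (one_ne_zero : (1 : F) ≠ 0)
  obtain ⟨v, hv⟩ := exists_value_ne hQ' h2 (by simp; omega) hd0
  have hA : chiPair Q d (S.emb (refl Q' u)) = (-1, 1) := by
    rw [S.emb_refl, chiPair_refl h2 hd (by rw [S.Qj, hc, hu]; simp), S.Qj, hc, hu,
      if_pos (by rw [mul_one]; exact IsSquare.one)]
  have hB : chiPair Q d (S.emb (refl Q' v)) = (1, -1) := by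
    rw [S.emb_refl, chiPair_refl h2 hd (by rw [S.Qj, hc, hv]; simp [hd0]), S.Qj, hc, hv,
      if_neg (by rw [one_mul]; exact hd)]
  obtain ⟨w, hw⟩ : ∃ w : O Q', chiPair Q d (S.emb w) = (chiPair Q d g)⁻¹ := by
    obtain ⟨a, b⟩ := (chiPair Q d g)⁻¹
    rcases Int.units_eq_one_or a with rfl | rfl <;> rcases Int.units_eq_one_or b with rfl | rfl
    · exact ⟨1, by rw [map_one, map_one]; rfl⟩
    · exact ⟨_, hB⟩
    · exact ⟨_, hA⟩
    · exact ⟨refl Q' u * refl Q' v, by rw [map_mul, map_mul, hA, hB]; simp⟩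
  refine ⟨g * S.emb w, ?_, fun i => ?_⟩
  · rw [commutator_eq hQ h2 hd, MonoidHom.mem_ker, map_mul, hw, mul_inv_cancel]
  · rw [app_mul, S.app_emb_of_p ((hker _).2 (Submodule.subset_span ⟨i, rfl⟩)), hg]

variable {e0 v : ι → F} (he0 : Q e0 = 1)

include he0

/-- A common neighbour. -/
theorem exists_nbr (hn : 7 ≤ Fintype.card ι) (v : ι → F) :
    ∃ a, Q a = 1 ∧ polar Q e0 a = 0 ∧ polar Q v a = 0 := by
  obtain ⟨a, ha, hQa⟩ := exists_unit_perp hQ h2 ![e0, v] ![e0]
    (fun l => Submodule.subset_span ⟨0, by fin_cases l; rfl⟩)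
    (fun l => by fin_cases l; simp [he0]) (fun l l' h => absurd (Subsingleton.elim l l') h) (by omega)
  exact ⟨a, hQa, ha 0, ha 1⟩

/-- A common neighbour of three vectors, two of them adjacent. -/
theorem exists_nbr₃ (hn : 7 ≤ Fintype.card ι) {v w : ι → F} (hv : Q v = 1) (hw : Q w = 1)
    (hvw : polar Q v w = 0) :
    ∃ a, Q a = 1 ∧ polar Q e0 a = 0 ∧ polar Q v a = 0 ∧ polar Q w a = 0 := by
  obtain ⟨a, ha, hQa⟩ := exists_unit_perp hQ h2 ![e0, v, w] ![v, w]
    (fun l => by fin_cases l; exacts [Submodule.subset_span ⟨1, rfl⟩, Submodule.subset_span ⟨2, rfl⟩])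
    (fun l => by fin_cases l <;> simp [hv, hw])
    (fun l l' h => by
      fin_cases l <;> fin_cases l'
      exacts [absurd rfl h, hvw, (polar_comm (⇑Q) w v).trans hvw, absurd rfl h]) (by omega)
  exact ⟨a, hQa, ha 0, ha 1, ha 2⟩

/-- The common neighbours of two vectors are connected. -/
theorem nbr_connected (hn : 7 ≤ Fintype.card ι) (hn' : 8 ≤ Fintype.card ι ∨ 5 ≤ Fintype.card F)
    {a a' : ι → F} (ha : Q a = 1) (ha0 : polar Q e0 a = 0) (hav : polar Q v a = 0)
    (hb : Q a' = 1) (hb0 : polar Q e0 a' = 0) (hbv : polar Q v a' = 0)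
    (P : (ι → F) → Prop) (hstep : ∀ x y, Q x = 1 → Q y = 1 → polar Q e0 x = 0 → polar Q v x = 0 →
      polar Q e0 y = 0 → polar Q v y = 0 → polar Q x y = 0 → P x → P y) (hP : P a) : P a' := by
  classical
  -- through one common neighbour
  have one : ∀ {a a' : ι → F}, Q a = 1 → polar Q e0 a = 0 → polar Q v a = 0 → Q a' = 1 →
      polar Q e0 a' = 0 → polar Q v a' = 0 → P a →
      (∃ b, Q b = 1 ∧ polar Q e0 b = 0 ∧ polar Q v b = 0 ∧ polar Q a b = 0 ∧ polar Q a' b = 0) →
      P a' := by
    intro a a' ha ha0 hav hb hb0 hbv hP ⟨b, hb1, hb2, hb3, hb4, hb5⟩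
    exact hstep b a' hb1 hb hb2 hb3 hb0 hbv ((polar_comm (⇑Q) b a').trans hb5)
      (hstep a b ha hb1 ha0 hav hb2 hb3 hb4 hP)
  have he : polar Q e0 e0 = 2 := by rw [polar_self', he0, mul_one]
  have haa : polar Q a a = 2 := by rw [polar_self', ha, mul_one]
  have hae : polar Q a e0 = 0 := by rw [polar_comm, ha0]
  by_cases h8 : 8 ≤ Fintype.card ι
  · obtain ⟨b, hb', hQb⟩ := exists_unit_perp hQ h2 ![e0, v, a, a'] ![e0, a]
      (fun l => by fin_cases l; exacts [Submodule.subset_span ⟨0, rfl⟩, Submodule.subset_span ⟨2, rfl⟩])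
      (fun l => by fin_cases l <;> simp [he0, ha])
      (fun l l' h => by
        fin_cases l <;> fin_cases l'
        exacts [absurd rfl h, ha0, hae, absurd rfl h]) (by omega)
    exact one ha ha0 hav hb hb0 hbv hP ⟨b, hQb, hb' 0, hb' 1, hb' 2, hb' 3⟩
  have hF : 5 ≤ Fintype.card F := hn'.resolve_left h8
  obtain ⟨s, hs⟩ : ∃ s, s = polar Q e0 v / 2 := ⟨_, rfl⟩
  obtain ⟨r, hr⟩ : ∃ r, r = v + (-s) • e0 := ⟨_, rfl⟩
  obtain ⟨u, hu⟩ : ∃ u, u = polar Q a a' / 2 := ⟨_, rfl⟩
  obtain ⟨t, ht⟩ : ∃ t, t = a' + (-u) • a := ⟨_, rfl⟩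
  have hs2 : s * 2 = polar Q e0 v := by rw [hs, div_mul_cancel₀ _ h2]
  have hu2 : u * 2 = polar Q a a' := by rw [hu, div_mul_cancel₀ _ h2]
  have hr0 : polar Q e0 r = 0 := by
    rw [hr, polar_add_right, polar_smul_right, he, smul_eq_mul, ← hs2]; ring
  have hra : polar Q a r = 0 := by
    rw [hr, polar_add_right, polar_smul_right, hae, smul_zero, add_zero, polar_comm, hav]
  have ht0 : polar Q e0 t = 0 := by
    rw [ht, polar_add_right, polar_smul_right, ha0, smul_zero, hb0, add_zero]
  have hta : polar Q a t = 0 := by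
    rw [ht, polar_add_right, polar_smul_right, haa, smul_eq_mul, ← hu2]; ring
  have htr : polar Q r t = 0 := by
    rw [hr, ht, polar_add_left, polar_add_right, polar_smul_right, hbv, hav, polar_smul_left,
      polar_add_right, polar_smul_right, hb0, ha0]
    simp
  -- three orthogonal anisotropic vectors in the span
  have three : ∀ (x : Fin 4 → ι → F) (z : ι → F), x 0 = e0 → x 2 = a →
      z ∈ Submodule.span F (Set.range x) → Q z ≠ 0 → polar Q e0 z = 0 → polar Q a z = 0 →
      ∃ b, (∀ i, polar Q (x i) b = 0) ∧ Q b = 1 := by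
    intro x z hx0 hx2 hz hQz hz0 hza
    refine exists_unit_perp hQ h2 x ![e0, a, z] (fun l => ?_) (fun l => ?_) (fun l l' h => ?_)
      (by omega)
    · fin_cases l
      exacts [hx0 ▸ Submodule.subset_span ⟨0, rfl⟩, hx2 ▸ Submodule.subset_span ⟨2, rfl⟩, hz]
    · fin_cases l <;> simp [he0, ha, hQz]
    · fin_cases l <;> fin_cases l'
      exacts [absurd rfl h, ha0, hz0, hae, absurd rfl h, hza,
        (polar_comm (⇑Q) z e0).trans hz0, (polar_comm (⇑Q) z a).trans hza, absurd rfl h]
  have hrmem : r ∈ Submodule.span F (Set.range ![e0, v, a, a']) := by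
    rw [hr]
    exact add_mem (Submodule.subset_span ⟨1, rfl⟩)
      (Submodule.smul_mem _ _ (Submodule.subset_span ⟨0, rfl⟩))
  have htmem : t ∈ Submodule.span F (Set.range ![e0, v, a, a']) := by
    rw [ht]
    exact add_mem (Submodule.subset_span ⟨3, rfl⟩)
      (Submodule.smul_mem _ _ (Submodule.subset_span ⟨2, rfl⟩))
  by_cases hQr : Q r = 0
  swap
  · obtain ⟨b, hb', hQb⟩ := three ![e0, v, a, a'] r rfl rfl hrmem hQr hr0 hra
    exact one ha ha0 hav hb hb0 hbv hP ⟨b, hQb, hb' 0, hb' 1, hb' 2, hb' 3⟩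
  by_cases hQt : Q t = 0
  swap
  · obtain ⟨b, hb', hQb⟩ := three ![e0, v, a, a'] t rfl rfl htmem hQt ht0 hta
    exact one ha ha0 hav hb hb0 hbv hP ⟨b, hQb, hb' 0, hb' 1, hb' 2, hb' 3⟩
  by_cases hts : t ∈ Submodule.span F (Set.range ![e0, a, r])
  · obtain ⟨b, hb', hQb⟩ := exists_unit_perp hQ h2 ![e0, a, r] ![e0, a]
      (fun l => by fin_cases l; exacts [Submodule.subset_span ⟨0, rfl⟩, Submodule.subset_span ⟨1, rfl⟩])
      (fun l => by fin_cases l <;> simp [he0, ha])
      (fun l l' h => by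
        fin_cases l <;> fin_cases l'
        exacts [absurd rfl h, ha0, hae, absurd rfl h]) (by omega)
    have h0 : polar Q e0 b = 0 := hb' 0
    have h1 : polar Q a b = 0 := hb' 1
    have hvb : polar Q v b = 0 := by
      have h3 : polar Q r b = 0 := hb' 2
      rw [hr, polar_add_left, polar_smul_left, h0, smul_zero, add_zero] at h3
      exact h3
    obtain ⟨c, hc⟩ := (Submodule.mem_span_range_iff_exists_fun F).1 hts
    have htb : polar Q t b = 0 := by
      rw [← hc, polar_comm, ← polarBilin_apply_apply Q b, map_sum]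
      simp only [map_smul, polarBilin_apply_apply, polar_comm (f := ⇑Q) b, hb', smul_zero,
        Finset.sum_const_zero]
    rw [ht, polar_add_left, polar_smul_left, h1, smul_zero, add_zero] at htb
    exact one ha ha0 hav hb hb0 hbv hP ⟨b, hQb, h0, hvb, h1, htb⟩
  -- both `r` and `t` singular
  obtain ⟨p, hp, htp, hQp⟩ := CfsgLib.POmega.exists_pair hQ ![e0, a, r] hQt
    (fun i => by fin_cases i; exacts [ht0, hta, htr]) hts
  obtain ⟨k, hk⟩ : ∃ k : F, k ∉ ({0, 2, -2} : Finset F) := by
    by_contra h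
    push Not at h
    have := (Finset.card_le_card fun x (_ : x ∈ (Finset.univ : Finset F)) => h x).trans
      Finset.card_le_three
    rw [Finset.card_univ] at this
    omega
  simp only [Finset.mem_insert, Finset.mem_singleton, not_or] at hk
  obtain ⟨hk0, hk2, hk2'⟩ := hk
  obtain ⟨b, hbdef⟩ : ∃ b, b = k⁻¹ • t + k • p := ⟨_, rfl⟩
  have hQb : Q b = 1 := by
    rw [hbdef, QuadraticMap.map_add ⇑Q, QuadraticMap.map_smul, QuadraticMap.map_smul, hQt, hQp,
      polar_smul_left, polar_smul_right, htp]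
    simp [hk0]
  have h0 : polar Q e0 b = 0 := by
    have h : polar Q e0 p = 0 := hp 0
    simp [hbdef, polar_add_right, polar_smul_right, ht0, h]
  have h1 : polar Q a b = 0 := by
    have h : polar Q a p = 0 := hp 1
    simp [hbdef, polar_add_right, polar_smul_right, hta, h]
  have hvb : polar Q v b = 0 := by
    have h : polar Q r p = 0 := hp 2
    have hrb : polar Q r b = 0 := by simp [hbdef, polar_add_right, polar_smul_right, htr, h]
    rwa [hr, polar_add_left, polar_smul_left, h0, smul_zero, add_zero] at hrb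
  have hkb : polar Q a' b = k := by
    have htb : polar Q t b = k := by
      rw [hbdef, polar_add_right, polar_smul_right, polar_smul_right, polar_self', hQt, htp]
      simp
    rwa [ht, polar_add_left, polar_smul_left, h1, smul_zero, add_zero] at htb
  have hPb : P b := hstep a b ha hQb ha0 hav h0 hvb h1 hP
  obtain ⟨z, hz⟩ : ∃ z, z = b + (-(k / 2)) • a' := ⟨_, rfl⟩
  have hQz : Q z ≠ 0 := by
    have : Q z = 1 - k * k / 4 := by
      rw [hz, QuadraticMap.map_add ⇑Q, QuadraticMap.map_smul, polar_smul_right, polar_comm, hkb,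
        hQb, hb]
      have h4 : (4 : F) = 2 * 2 := by norm_num
      simp only [smul_eq_mul, h4]
      field_simp
      ring
    rw [this]
    intro h
    have h4 : (4 : F) ≠ 0 := by rw [show (4 : F) = 2 * 2 by norm_num]; exact mul_ne_zero h2 h2
    have : (k - 2) * (k + 2) = 0 := by
      field_simp at h
      linear_combination -h
    rcases mul_eq_zero.1 this with h' | h'
    · exact hk2 (sub_eq_zero.1 h')
    · exact hk2' (eq_neg_of_add_eq_zero_left h')
  have hz0 : polar Q e0 z = 0 := by
    rw [hz, polar_add_right, polar_smul_right, h0, hb0, smul_zero, add_zero]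
  have hza : polar Q a' z = 0 := by
    rw [hz, polar_add_right, polar_smul_right, hkb, polar_self', hb, smul_eq_mul]
    field_simp
    ring
  obtain ⟨w, hw, hQw⟩ := exists_unit_perp hQ h2 ![e0, v, a', b] ![e0, a', z]
    (fun l => by
      fin_cases l
      exacts [Submodule.subset_span ⟨0, rfl⟩, Submodule.subset_span ⟨2, rfl⟩, hz ▸ add_mem
        (Submodule.subset_span ⟨3, rfl⟩) (Submodule.smul_mem _ _ (Submodule.subset_span ⟨2, rfl⟩))])
    (fun l => by fin_cases l <;> simp [he0, hb, hQz])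
    (fun l l' h => by
      fin_cases l <;> fin_cases l'
      exacts [absurd rfl h, hb0, hz0, (polar_comm (⇑Q) a' e0).trans hb0, absurd rfl h, hza,
        (polar_comm (⇑Q) z e0).trans hz0, (polar_comm (⇑Q) z a').trans hza, absurd rfl h]) (by omega)
  exact one hQb h0 hvb hb hb0 hbv hPb ⟨w, hQw, hw 0, hw 1, hw 3, hw 2⟩

end CfsgLib.OddMult
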