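import Cfsg.Agent.Lib.OddMult.Geom
import Cfsg.Agent.Lib.ChevMult.CentralExt
import Mathlib.LinearAlgebra.CliffordAlgebra.Contraction
import Mathlib.GroupTheory.Schreier

/-!
The spin group: a finite perfect double cover of `Ω(Q)` inside the units of the Clifford algebra.
-/

set_option autoImplicit false
set_option linter.unusedSectionVars false

namespace CfsgLib.OddMult

open Matrix QuadraticMap CfsgLib.Orth
open scoped commutatorElement

universe u

variable {ι : Type} [Fintype ι] [DecidableEq ι] {F : Type u} [Field F]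
  (Q : QuadraticForm F (ι → F))

/-- A vector as a unit of the Clifford algebra (one, when singular). -/
noncomputable def cunit (v : ι → F) : (CliffordAlgebra Q)ˣ :=
  open scoped Classical in
  if h : Q v ≠ 0 then
    ⟨CliffordAlgebra.ι Q v, (Q v)⁻¹ • CliffordAlgebra.ι Q v,
      by rw [mul_smul_comm, CliffordAlgebra.ι_sq_scalar, Algebra.smul_def, ← map_mul,
        inv_mul_cancel₀ h, map_one],
      by rw [smul_mul_assoc, CliffordAlgebra.ι_sq_scalar, Algebra.smul_def, ← map_mul,
        inv_mul_cancel₀ h, map_one]⟩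
  else 1

theorem coe_cunit {v : ι → F} (h : Q v ≠ 0) :
    (cunit Q v : CliffordAlgebra Q) = CliffordAlgebra.ι Q v := by
  rw [cunit, dif_pos h]

/-- Conjugation by a vector is minus the reflection. -/
theorem cunit_mul_ι {v : ι → F} (h : Q v ≠ 0) (x : ι → F) :
    (cunit Q v : CliffordAlgebra Q) * CliffordAlgebra.ι Q x =
      -(CliffordAlgebra.ι Q (app (refl Q v) x) * cunit Q v) := by
  rw [coe_cunit Q h, CliffordAlgebra.ι_mul_ι_comm, app_refl, map_sub, map_smul, sub_mul,
    smul_mul_assoc, CliffordAlgebra.ι_sq_scalar, Algebra.smul_def,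
    ← map_mul (algebraMap F (CliffordAlgebra Q)),
    polar_comm (f := ⇑Q) v x, mul_right_comm, inv_mul_cancel₀ h, one_mul]
  abel

/-- The generators: pairs of vectors with the product of their reflections. -/
def pairSet : Set ((CliffordAlgebra Q)ˣ × O Q) :=
  {h | ∃ v w, Q v ≠ 0 ∧ Q w ≠ 0 ∧ h = (cunit Q v * cunit Q w, refl Q v * refl Q w)}

/-- The even Clifford group generated by pairs of vectors. -/
def evenGroup : Subgroup ((CliffordAlgebra Q)ˣ × O Q) := Subgroup.closure (pairSet Q)

/-- Its action. -/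
def evenProj : evenGroup Q →* O Q := (MonoidHom.snd _ _).comp (evenGroup Q).subtype

theorem evenGroup_comm {h : (CliffordAlgebra Q)ˣ × O Q} (hh : h ∈ evenGroup Q) (x : ι → F) :
    (h.1 : CliffordAlgebra Q) * CliffordAlgebra.ι Q x =
      CliffordAlgebra.ι Q (app h.2 x) * (h.1 : CliffordAlgebra Q) := by
  induction hh using Subgroup.closure_induction generalizing x with
  | mem h hh =>
    obtain ⟨v, w, hv, hw, rfl⟩ := hh
    simp only [Units.val_mul, app_mul]
    rw [mul_assoc, cunit_mul_ι Q hw, mul_neg, ← mul_assoc, cunit_mul_ι Q hv, neg_mul, neg_neg,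
      mul_assoc]
  | one => simp
  | mul a b _ _ ha hb =>
    simp only [Prod.fst_mul, Prod.snd_mul, Units.val_mul, app_mul]
    rw [mul_assoc, hb, ← mul_assoc, ha, mul_assoc]
  | inv a _ ha =>
    simp only [Prod.fst_inv, Prod.snd_inv]
    have h := ha (app a.2⁻¹ x)
    rw [app_app_inv] at h
    rw [Units.inv_mul_eq_iff_eq_mul, ← mul_assoc, h, Units.mul_inv_cancel_right]

theorem evenProj_ker_le_center : (evenProj Q).ker ≤ Subgroup.center (evenGroup Q) := by
  intro z hz
  have hz2 : z.1.2 = 1 := hz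
  have hι : ∀ x, (z.1.1 : CliffordAlgebra Q) * CliffordAlgebra.ι Q x =
      CliffordAlgebra.ι Q x * (z.1.1 : CliffordAlgebra Q) := fun x => by
    rw [evenGroup_comm Q z.2, hz2, app_one]
  have hall : ∀ a : CliffordAlgebra Q, a * (z.1.1 : CliffordAlgebra Q) = z.1.1 * a := fun a => by
    induction a using CliffordAlgebra.induction with
    | algebraMap r => exact Algebra.commutes r _
    | ι x => exact (hι x).symm
    | mul a b ha hb => rw [mul_assoc, hb, ← mul_assoc, ha, mul_assoc]
    | add a b ha hb => rw [add_mul, mul_add, ha, hb]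
  refine Subgroup.mem_center_iff.2 fun y => Subtype.ext (Prod.ext (Units.ext (hall _)) ?_)
  show y.1.2 * z.1.2 = z.1.2 * y.1.2
  rw [hz2, mul_one, one_mul]

variable [Fintype F]

/-- The action is onto `Ω`. -/
theorem omega_le_range (hQ : Q.polarBilin.Nondegenerate) (h2 : (2 : F) ≠ 0) :
    commutator (O Q) ≤ (evenProj Q).range := by
  classical
  obtain ⟨d, hd⟩ := FiniteField.exists_nonsquare (F := F) (fun hch => by
    have : CharP F 2 := ringChar.of_eq hch
    exact h2 CharTwo.two_eq_zero)
  rw [commutator_eq hQ h2 hd]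
  have hgen : ∀ v w, Q v ≠ 0 → Q w ≠ 0 → refl Q v * refl Q w ∈ (evenProj Q).range := fun v w hv hw =>
    ⟨⟨_, Subgroup.subset_closure ⟨v, w, hv, hw, rfl⟩⟩, rfl⟩
  have hR : (evenProj Q).range =
      Subgroup.closure {g | ∃ v w, Q v ≠ 0 ∧ Q w ≠ 0 ∧ g = refl Q v * refl Q w} := by
    rw [evenProj, MonoidHom.range_comp, Subgroup.range_subtype, evenGroup, MonoidHom.map_closure]
    congr 1
    ext g
    constructor
    · rintro ⟨_, ⟨v, w, hv, hw, rfl⟩, rfl⟩
      exact ⟨v, w, hv, hw, rfl⟩
    · rintro ⟨v, w, hv, hw, rfl⟩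
      exact ⟨_, ⟨v, w, hv, hw, rfl⟩, rfl⟩
  have hN : (evenProj Q).range.Normal := Subgroup.Normal.mk fun n hn g => by
    rw [hR] at hn ⊢
    induction hn using Subgroup.closure_induction with
    | mem n hn =>
      obtain ⟨v, w, hv, hw, rfl⟩ := hn
      refine Subgroup.subset_closure ⟨app g v, app g w, by rwa [Q_app], by rwa [Q_app], ?_⟩
      rw [← refl_conj, ← refl_conj]
      group
    | one => simp
    | mul a b _ _ ha hb => simpa [mul_assoc] using mul_mem ha hb
    | inv a _ ha => simpa [mul_assoc] using inv_mem ha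
  exact ker_chiPair_le hQ h2 hd (evenProj Q).range fun v w hv hvw => hgen v w hv (hvw ▸ hv)

/-- The double cover. -/
theorem exists_spin_cover (hQ : Q.polarBilin.Nondegenerate) (h2 : (2 : F) ≠ 0)
    (hn : 7 ≤ Fintype.card ι) :
    ∃ (Γ : Type u) (_ : Group Γ) (_ : Finite Γ) (π : Γ →* O Q),
      π.range = commutator (O Q) ∧ π.ker ≤ Subgroup.center Γ ∧ commutator Γ = ⊤ ∧
      ∃ z ∈ π.ker, z ≠ 1 := by
  classical
  set pr := evenProj Q with hpr
  have hcen : pr.ker ≤ Subgroup.center (evenGroup Q) := evenProj_ker_le_center Q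
  set P : Subgroup (evenGroup Q) := (commutator (O Q)).comap pr with hP
  have hmap : P.map pr = commutator (O Q) :=
    Subgroup.map_comap_eq_self (omega_le_range Q hQ h2)
  have hperfΩ : ⁅commutator (O Q), commutator (O Q)⁆ = commutator (O Q) := by
    rw [← Subgroup.range_subtype (commutator (O Q)), MonoidHom.range_eq_map,
      ← Subgroup.map_commutator, ← _root_.commutator_def,
      CfsgLib.POmega.omega_perfect hQ (by omega)]
  set Γ : Subgroup (evenGroup Q) := ⁅P, P⁆ with hΓ
  have hΓmap : Γ.map pr = commutator (O Q) := by rw [hΓ, Subgroup.map_commutator, hmap, hperfΩ]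
  -- finiteness
  have hfin : Finite (commutatorSet (evenGroup Q)) := by
    let sec : O Q → evenGroup Q := fun g => if h : ∃ a, pr a = g then h.choose else 1
    have hsec : ∀ a, pr (sec (pr a)) = pr a := fun a => by
      have h : ∃ b, pr b = pr a := ⟨a, rfl⟩
      simp only [sec, dif_pos h]
      exact h.choose_spec
    refine ((Set.finite_range fun p : O Q × O Q => ⁅sec p.1, sec p.2⁆).subset ?_).to_subtype
    rintro _ ⟨a, b, rfl⟩
    refine ⟨(pr a, pr b), ?_⟩
    have hz : ∀ a, (sec (pr a))⁻¹ * a ∈ Subgroup.center (evenGroup Q) := fun a => hcen (by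
      rw [MonoidHom.mem_ker, map_mul, map_inv, hsec, inv_mul_cancel])
    conv_rhs => rw [← mul_inv_cancel_left (sec (pr a)) a, ← mul_inv_cancel_left (sec (pr b)) b,
      CfsgLib.ChevMult.CExt.comm_central_left (hz a), CfsgLib.ChevMult.CExt.comm_central_right (hz b)]
  have hΓle : Γ ≤ commutator (evenGroup Q) := by
    rw [_root_.commutator_def]; exact Subgroup.commutator_mono le_top le_top
  have : Finite Γ := Finite.of_injective _ (Subgroup.inclusion_injective hΓle)
  refine ⟨Γ, inferInstance, inferInstance, pr.comp Γ.subtype, ?_, ?_, ?_, ?_⟩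
  · rw [MonoidHom.range_comp, Subgroup.range_subtype, hΓmap]
  · intro g hg
    exact Subgroup.mem_center_iff.2 fun x => Subtype.ext
      (Subgroup.mem_center_iff.1 (hcen (show (g : evenGroup Q) ∈ pr.ker from hg)) _)
  · have dec : ∀ a ∈ P, ∃ c ∈ Γ, c⁻¹ * a ∈ Subgroup.center (evenGroup Q) := by
      intro a ha
      have : pr a ∈ Γ.map pr := by rw [hΓmap]; exact ha
      obtain ⟨c, hc, hca⟩ := this
      exact ⟨c, hc, hcen (by rw [MonoidHom.mem_ker, map_mul, map_inv, hca, inv_mul_cancel])⟩
    apply Subgroup.map_injective Γ.subtype_injective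
    rw [_root_.commutator_def, Subgroup.map_commutator, ← MonoidHom.range_eq_map,
      Subgroup.range_subtype]
    refine le_antisymm (Subgroup.commutator_le_self _) (Subgroup.commutator_le.2 fun a ha b hb => ?_)
    obtain ⟨c, hc, hca⟩ := dec a ha
    obtain ⟨e, he, heb⟩ := dec b hb
    rw [← mul_inv_cancel_left c a, ← mul_inv_cancel_left e b,
      CfsgLib.ChevMult.CExt.comm_central_left hca, CfsgLib.ChevMult.CExt.comm_central_right heb]
    exact Subgroup.commutator_mem_commutator hc he
  -- three orthonormal vectors give `-1`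
  obtain ⟨u, hu⟩ := exists_value_ne hQ h2 (by omega) (one_ne_zero : (1 : F) ≠ 0)
  obtain ⟨v, hv, huv, -⟩ := exists_nbr hQ h2 hu hn u
  obtain ⟨w, hw, huw, hvw⟩ := exists_nbr hQ h2 hu hn v
  have hu0 : Q u ≠ 0 := by simp [hu]
  have hv0 : Q v ≠ 0 := by simp [hv]
  have hw0 : Q w ≠ 0 := by simp [hw]
  let x : evenGroup Q := ⟨_, Subgroup.subset_closure ⟨u, v, hu0, hv0, rfl⟩⟩
  let y : evenGroup Q := ⟨_, Subgroup.subset_closure ⟨v, w, hv0, hw0, rfl⟩⟩
  obtain ⟨d, hd⟩ := FiniteField.exists_nonsquare (F := F) (fun hch => by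
    have : CharP F 2 := ringChar.of_eq hch
    exact h2 CharTwo.two_eq_zero)
  have hxP : x ∈ P := by
    show refl Q u * refl Q v ∈ commutator (O Q)
    rw [commutator_eq hQ h2 hd, MonoidHom.mem_ker, map_mul, chiPair_refl h2 hd hu0,
      chiPair_refl h2 hd hv0, hu, hv]
    simp
  have hyP : y ∈ P := by
    show refl Q v * refl Q w ∈ commutator (O Q)
    rw [commutator_eq hQ h2 hd, MonoidHom.mem_ker, map_mul, chiPair_refl h2 hd hw0,
      chiPair_refl h2 hd hv0, hw, hv]
    simp
  have rcomm : ∀ a b, polar Q a b = 0 → refl Q a * refl Q b = refl Q b * refl Q a := fun a b hab => by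
    have h := refl_conj (refl Q a) b
    rw [app_refl_of_ortho ((polar_comm (⇑Q) b a).trans hab)] at h
    exact mul_inv_eq_iff_eq_mul.1 h
  refine ⟨⟨⁅x, y⁆, Subgroup.commutator_mem_commutator hxP hyP⟩, ?_, fun h => ?_⟩
  · show ⁅pr x, pr y⁆ = 1
    rw [commutatorElement_eq_one_iff_mul_comm]
    show refl Q u * refl Q v * (refl Q v * refl Q w) = refl Q v * refl Q w * (refl Q u * refl Q v)
    have e1 : refl Q w * refl Q u = refl Q u * refl Q w := (rcomm u w huw).symm
    have e2 : refl Q v * refl Q u = refl Q u * refl Q v := (rcomm u v huv).symm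
    have e3 : refl Q w * refl Q v = refl Q v * refl Q w := (rcomm v w hvw).symm
    rw [mul_assoc, ← mul_assoc (refl Q v), refl_mul_self, one_mul, mul_assoc (refl Q v),
      ← mul_assoc (refl Q w), e1, mul_assoc (refl Q u), e3, ← mul_assoc (refl Q u),
      ← mul_assoc (refl Q v), ← mul_assoc (refl Q v), e2, mul_assoc (refl Q u), refl_mul_self,
      mul_one]
  · have h' := congrArg Subtype.val h
    rw [Subgroup.coe_one, commutatorElement_eq_one_iff_mul_comm] at h'
    have h1 := congrArg (fun g : evenGroup Q => (g.1.1 : CliffordAlgebra Q)) h'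
    simp only [x, y, Subgroup.coe_mul, Prod.fst_mul, Units.val_mul, coe_cunit Q hu0,
      coe_cunit Q hv0, coe_cunit Q hw0] at h1
    set U := CliffordAlgebra.ι Q u
    set V := CliffordAlgebra.ι Q v
    set W := CliffordAlgebra.ι Q w
    have hsw : ∀ a b, polar Q a b = 0 → CliffordAlgebra.ι Q a * CliffordAlgebra.ι Q b =
        -(CliffordAlgebra.ι Q b * CliffordAlgebra.ι Q a) := fun a b hab => by
      rw [CliffordAlgebra.ι_mul_ι_comm, hab, map_zero, zero_sub]
    have sq : ∀ a, Q a = 1 → CliffordAlgebra.ι Q a * CliffordAlgebra.ι Q a = 1 := fun a ha => by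
      rw [CliffordAlgebra.ι_sq_scalar, ha, map_one]
    have eL : U * V * (V * W) = U * W := by rw [mul_assoc, ← mul_assoc V, sq v hv, one_mul]
    have eR : V * W * (U * V) = -(U * W) := by
      have a1 : W * U = -(U * W) := hsw w u ((polar_comm (⇑Q) w u).trans huw)
      have a2 : V * U = -(U * V) := hsw v u ((polar_comm (⇑Q) v u).trans huv)
      have a3 : W * V = -(V * W) := hsw w v ((polar_comm (⇑Q) w v).trans hvw)
      calc V * W * (U * V) = V * (W * U) * V := by noncomm_ring
        _ = -(V * U * (W * V)) := by rw [a1]; noncomm_ring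
        _ = -(U * (V * V) * W) := by rw [a2, a3]; noncomm_ring
        _ = -(U * W) := by rw [sq v hv, mul_one]
    rw [eL, eR] at h1
    have hinv : W * U * (U * W) = 1 := by
      rw [mul_assoc, ← mul_assoc U, sq u hu, one_mul, sq w hw]
    have h3 : (2 : CliffordAlgebra Q) * (W * U * (U * W)) = 0 := by
      have h0 : U * W + U * W = 0 := add_eq_zero_iff_eq_neg.2 h1
      rw [two_mul, ← mul_add, h0, mul_zero]
    rw [hinv, mul_one] at h3
    have : Invertible (2 : F) := invertibleOfNonzero h2
    have : Nontrivial (CliffordAlgebra Q) :=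
      (CliffordAlgebra.equivExterior Q).symm.injective.nontrivial
    exact h2 ((algebraMap F (CliffordAlgebra Q)).injective (by rw [map_ofNat, h3, map_zero]))

end CfsgLib.OddMult
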