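import Cfsg.Agent.Lib.POmega.Bridge

/-!
Orthogonal splittings `V = j(V') ⊥ ker p`: the stabiliser of `ker p` is a copy of `O(Q')`, meeting
`Ω(Q)` in `Ω(Q')`. Perfectness of `Ω` in dimension at least five.
-/

set_option autoImplicit false
set_option linter.unusedSectionVars false

namespace CfsgLib.OddMult

open Matrix QuadraticMap CfsgLib.Orth

variable {ι κ : Type} [Fintype ι] [DecidableEq ι] [Fintype κ] [DecidableEq κ] {F : Type*} [Field F]
  {Q : QuadraticForm F (ι → F)} {Q' : QuadraticForm F (κ → F)}

/-- `Q ≅ c Q' ⊥ (the form on ker p)`. -/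
structure Split (Q : QuadraticForm F (ι → F)) (Q' : QuadraticForm F (κ → F)) where
  /-- the embedding -/
  j : (κ → F) →ₗ[F] (ι → F)
  /-- the orthogonal projection -/
  p : (ι → F) →ₗ[F] (κ → F)
  /-- the scale -/
  c : F
  c_ne : c ≠ 0
  pj : ∀ x, p (j x) = x
  perp : ∀ x v, polar Q (j x) (v - j (p v)) = 0
  Qj : ∀ x, Q (j x) = c * Q' x

namespace Split

variable (S : Split Q Q')

theorem polar_j (x y : κ → F) : polar Q (S.j x) (S.j y) = S.c * polar Q' x y := by
  simp only [QuadraticMap.polar, ← map_add, S.Qj]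
  ring

theorem polar_j_eq (x : κ → F) (v : ι → F) : polar Q (S.j x) v = S.c * polar Q' x (S.p v) := by
  have h := S.perp x v
  rw [polar_sub_right, sub_eq_zero] at h
  rw [h, S.polar_j]

theorem p_rest (v : ι → F) : S.p (v - S.j (S.p v)) = 0 := by rw [map_sub, S.pj, sub_self]

theorem nondegenerate (S : Split Q Q') (hQ : Q.polarBilin.Nondegenerate) :
    Q'.polarBilin.Nondegenerate := by
  have key : ∀ x, (∀ y, polar Q' x y = 0) → x = 0 := fun x hx => by
    have h : S.j x = 0 := eq_zero_of_polar hQ fun v => by rw [S.polar_j_eq, hx, mul_zero]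
    simpa [h] using (S.pj x).symm
  exact ⟨key, fun y hy => key y fun x => by rw [polar_comm]; exact hy x⟩

/-- `g ↦ g ⊥ 1` on vectors. -/
def embMap (g : O Q') : (ι → F) →ₗ[F] (ι → F) :=
  LinearMap.id - S.j.comp S.p + S.j.comp ((app g).comp S.p)

theorem embMap_apply (g : O Q') (v : ι → F) :
    S.embMap g v = v - S.j (S.p v) + S.j (app g (S.p v)) := rfl

/-- `g ↦ g ⊥ 1`. -/
noncomputable def emb : O Q' →* O Q :=
  CfsgLib.POmega.mkHom S.embMap
    (fun v => by rw [embMap_apply, app_one, sub_add_cancel])
    (fun g h v => by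
      simp only [embMap_apply, app_mul, map_add, map_sub, S.pj, sub_self, map_zero, zero_add]
      abel)
    (fun g v => by
      rw [embMap_apply]
      conv_rhs => rw [← sub_add_cancel v (S.j (S.p v))]
      simp only [QuadraticMap.map_add ⇑Q, S.Qj, Q_app]
      rw [polar_comm (f := ⇑Q) (v - S.j (S.p v)) (S.j (app g (S.p v))), S.perp,
        polar_comm (f := ⇑Q) (v - S.j (S.p v)) (S.j (S.p v)), S.perp])

theorem app_emb (g : O Q') (v : ι → F) :
    app (S.emb g) v = v - S.j (S.p v) + S.j (app g (S.p v)) :=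
  CfsgLib.POmega.app_mkHom _ _ _ _ _ _

theorem app_emb_j (g : O Q') (x : κ → F) : app (S.emb g) (S.j x) = S.j (app g x) := by
  rw [S.app_emb, S.pj, sub_self, zero_add]

theorem app_emb_of_p {v : ι → F} (hv : S.p v = 0) (g : O Q') : app (S.emb g) v = v := by
  rw [S.app_emb, hv, map_zero, map_zero, map_zero, sub_zero, add_zero]

theorem emb_injective : Function.Injective S.emb := fun g h e => ext_app fun x => by
  have h1 := congrArg (fun k => S.p (app k (S.j x))) e
  simpa [S.app_emb_j, S.pj] using h1

theorem emb_refl (x : κ → F) : S.emb (refl Q' x) = refl Q (S.j x) := ext_app fun v => by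
  rw [S.app_emb, app_refl, app_refl, map_sub, map_smul, S.Qj, polar_comm (f := ⇑Q) v,
    S.polar_j_eq, polar_comm (f := ⇑Q') x]
  rcases eq_or_ne (Q' x) 0 with h | h
  · simp [h]
  · rw [show (S.c * Q' x)⁻¹ * (S.c * polar Q' (S.p v) x) = (Q' x)⁻¹ * polar Q' (S.p v) x by
      rw [mul_inv]; field_simp [S.c_ne]]
    abel

/-- The stabiliser of `ker p` is the image. -/
theorem mem_range (hQ : Q.polarBilin.Nondegenerate) {h : O Q}
    (hfix : ∀ v, S.p v = 0 → app h v = v) : h ∈ S.emb.range := by
  have hj : ∀ k : O Q, (∀ v, S.p v = 0 → app k v = v) → ∀ x,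
      S.j (S.p (app k (S.j x))) = app k (S.j x) := by
    intro k hk x
    set r := app k (S.j x) with hr
    refine (sub_eq_zero.1 (eq_zero_of_polar hQ fun v => ?_)).symm
    rw [← sub_add_cancel v (S.j (S.p v)), polar_add_right,
      polar_comm (f := ⇑Q) (r - S.j (S.p r)) (S.j (S.p v)), S.perp, add_zero, polar_sub_left,
      S.perp, sub_zero, hr]
    nth_rewrite 1 [← hk _ (S.p_rest v)]
    rw [polar_app, S.perp]
  have hfix' : ∀ v, S.p v = 0 → app h⁻¹ v = v := fun v hv => by
    conv_lhs => rw [← hfix v hv, app_inv_app]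
  let L : O Q → (κ → F) →ₗ[F] (κ → F) := fun k => S.p.comp ((app k).comp S.j)
  refine ⟨mkO (L h) (L h⁻¹) (LinearMap.ext fun x => ?_) (LinearMap.ext fun x => ?_) (fun x => ?_),
    ext_app fun v => ?_⟩
  · simp only [L, LinearMap.comp_apply, LinearMap.id_apply]
    rw [hj _ hfix', app_app_inv, S.pj]
  · simp only [L, LinearMap.comp_apply, LinearMap.id_apply]
    rw [hj _ hfix, app_inv_app, S.pj]
  · refine mul_left_cancel₀ S.c_ne ?_
    simp only [L, LinearMap.comp_apply]
    rw [← S.Qj, ← S.Qj, hj _ hfix, Q_app]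
  · rw [S.app_emb, app_mkO]
    simp only [L, LinearMap.comp_apply]
    rw [hj _ hfix]
    conv_lhs => arg 1; rw [← hfix _ (S.p_rest v)]
    rw [← map_add, sub_add_cancel]

variable [Fintype F] [DecidableEq F]

/-- `Ω(Q) ∩ O(Q') = Ω(Q')`. -/
theorem omega_comap (hQ : Q.polarBilin.Nondegenerate) (h2 : (2 : F) ≠ 0) :
    (commutator (O Q)).comap S.emb = commutator (O Q') := by
  classical
  obtain ⟨d, hd⟩ := FiniteField.exists_nonsquare (F := F) (fun hch => by
    have : CharP F 2 := ringChar.of_eq hch
    exact h2 CharTwo.two_eq_zero)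
  have hQ' := S.nondegenerate hQ
  rw [commutator_eq hQ h2 hd, commutator_eq hQ' h2 hd, MonoidHom.comap_ker]
  have hval : ∀ v, Q' v ≠ 0 → chiPair Q d (S.emb (refl Q' v)) =
      if IsSquare (S.c * Q' v) then (-1, 1) else (1, -1) := fun v hv => by
    rw [S.emb_refl, chiPair_refl h2 hd (by rw [S.Qj]; exact mul_ne_zero S.c_ne hv), S.Qj]
  by_cases hc : IsSquare S.c
  · have key : ∀ g, chiPair Q d (S.emb g) = chiPair Q' d g := fun g => by
      induction g using odd_induction hQ' h2 with
      | h1 => simp
      | hmul v g hv ih =>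
        rw [map_mul, map_mul, map_mul, ih, hval v hv, chiPair_refl h2 hd hv]
        have : IsSquare (S.c * Q' v) ↔ IsSquare (Q' v) :=
          ⟨fun h => by simpa [mul_div_assoc, div_self S.c_ne, mul_comm S.c] using h.div hc,
            fun h => hc.mul h⟩
        simp only [this]
    ext g
    simp [key]
  · have key : ∀ g, chiPair Q d (S.emb g) = (chiPair Q' d g).swap := fun g => by
      induction g using odd_induction hQ' h2 with
      | h1 => simp
      | hmul v g hv ih =>
        rw [map_mul, map_mul, map_mul, ih, hval v hv, chiPair_refl h2 hd hv]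
        have : IsSquare (S.c * Q' v) ↔ ¬ IsSquare (Q' v) := by
          constructor
          · intro h h'
            exact hc (by simpa [mul_div_assoc, div_self hv] using h.div h')
          · intro h
            rw [← quadraticChar_one_iff_isSquare (mul_ne_zero S.c_ne hv), map_mul,
              quadraticChar_neg_one_iff_not_isSquare.2 hc, quadraticChar_neg_one_iff_not_isSquare.2 h]
            norm_num
        by_cases hs : IsSquare (Q' v) <;> simp [this, hs]
    ext g
    simp [key, Prod.ext_iff, and_comm]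

/-- The elements of `Ω(Q)` fixing `ker p` are the image of `Ω(Q')`. -/
theorem map_omega (hQ : Q.polarBilin.Nondegenerate) (h2 : (2 : F) ≠ 0) {g : O Q} :
    g ∈ (commutator (O Q')).map S.emb ↔
      g ∈ commutator (O Q) ∧ ∀ v, S.p v = 0 → app g v = v := by
  constructor
  · rintro ⟨y, hy, rfl⟩
    rw [SetLike.mem_coe, ← S.omega_comap hQ h2] at hy
    exact ⟨hy, fun v hv => S.app_emb_of_p hv y⟩
  · rintro ⟨hg, hfix⟩
    obtain ⟨y, rfl⟩ := S.mem_range hQ hfix
    exact ⟨y, by rw [SetLike.mem_coe, ← S.omega_comap hQ h2]; exact hg, rfl⟩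

end Split

/-- The orthogonal complement of pairwise orthogonal anisotropic vectors. -/
theorem exists_split (hQ : Q.polarBilin.Nondegenerate) (h2 : (2 : F) ≠ 0) {k : ℕ}
    (x : Fin k → ι → F) (hx : ∀ i, Q (x i) ≠ 0) (ho : ∀ i l, i ≠ l → polar Q (x i) (x l) = 0) :
    ∃ (Q' : QuadraticForm F (Fin (Fintype.card ι - k) → F)) (S : Split Q Q'),
      S.c = 1 ∧ ∀ v, S.p v = 0 ↔ v ∈ Submodule.span F (Set.range x) := by
  classical
  have hxx : ∀ i, polar Q (x i) (x i) ≠ 0 := fun i => by
    rw [polar_self']; exact mul_ne_zero h2 (hx i)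
  set U := Submodule.span F (Set.range x) with hU
  set W := LinearMap.BilinForm.orthogonal Q.polarBilin U with hW
  have hmemW : ∀ v, v ∈ W ↔ ∀ i, polar Q (x i) v = 0 := fun v => by
    rw [hW, LinearMap.BilinForm.mem_orthogonal_iff]
    refine ⟨fun h i => h _ (Submodule.subset_span ⟨i, rfl⟩), fun h u hu => ?_⟩
    change polar Q u v = 0
    induction hu using Submodule.span_induction with
    | mem u hu => obtain ⟨i, rfl⟩ := hu; exact h i
    | zero => exact polar_zero_left _ _
    | add u w _ _ hu hw => rw [polar_add_left, hu, hw, add_zero]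
    | smul a u _ hu => rw [polar_smul_left, hu, smul_zero]
  have hli : LinearIndependent F x := by
    rw [Fintype.linearIndependent_iff]
    intro c hc i
    have h := congrArg (fun y => Q.polarBilin (x i) y) hc
    simp only [map_sum, map_smul, polarBilin_apply_apply, map_zero, smul_eq_mul] at h
    rw [Finset.sum_eq_single i (fun l _ hl => by rw [ho i l (Ne.symm hl), mul_zero])
      (fun h' => absurd (Finset.mem_univ i) h')] at h
    exact (mul_eq_zero.1 h).resolve_right (hxx i)
  have hdim : Module.finrank F W = Fintype.card ι - k := by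
    rw [hW, LinearMap.BilinForm.finrank_orthogonal hQ, Module.finrank_fintype_fun_eq_card, hU,
      finrank_span_eq_card hli, Fintype.card_fin]
  let e : (Fin (Fintype.card ι - k) → F) ≃ₗ[F] W :=
    LinearEquiv.ofFinrankEq _ _ (by rw [Module.finrank_fin_fun, hdim])
  let π : (ι → F) →ₗ[F] (ι → F) :=
    LinearMap.id - ∑ i, ((polar Q (x i) (x i))⁻¹ • Q.polarBilin (x i)).smulRight (x i)
  have hπapp : ∀ v, π v = v - ∑ i, ((polar Q (x i) (x i))⁻¹ * polar Q (x i) v) • x i := fun v => by
    simp [π, LinearMap.sum_apply]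
  have hπ : ∀ v, π v ∈ W := fun v => (hmemW _).2 fun l => by
    rw [hπapp, polar_sub_right, ← polarBilin_apply_apply Q (x l) (∑ i, _), map_sum]
    simp only [map_smul, polarBilin_apply_apply, smul_eq_mul]
    rw [Finset.sum_eq_single l (fun i _ hi => by rw [ho l i (Ne.symm hi), mul_zero])
      (fun h' => absurd (Finset.mem_univ l) h'), mul_comm, ← mul_assoc,
      mul_inv_cancel₀ (hxx l), one_mul, sub_self]
  have hπW : ∀ w : W, π w.1 = w.1 := fun w => by
    rw [hπapp]
    simp [(hmemW _).1 w.2]
  have hrest : ∀ v, v - π v ∈ U := fun v => by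
    rw [hπapp, sub_sub_cancel]
    exact Submodule.sum_mem _ fun i _ => Submodule.smul_mem _ _ (Submodule.subset_span ⟨i, rfl⟩)
  let j := W.subtype.comp e.toLinearMap
  let p := e.symm.toLinearMap.comp (π.codRestrict W hπ)
  have hjp : ∀ v, j (p v) = π v := fun v => by simp [j, p]
  refine ⟨Q.comp j,
    { j := j
      p := p
      c := 1
      c_ne := one_ne_zero
      pj := fun y => e.injective (Subtype.ext (by
        show ((e (p (j y))) : W).1 = _
        simp only [p, LinearMap.comp_apply, LinearEquiv.coe_coe, LinearEquiv.apply_symm_apply,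
          LinearMap.codRestrict_apply]
        exact hπW (e y)))
      perp := fun y v => by
        rw [hjp, polar_comm]
        exact LinearMap.BilinForm.mem_orthogonal_iff.1 (e y).2 _ (hrest v)
      Qj := fun y => by rw [one_mul, QuadraticMap.comp_apply] }, rfl, fun v => ?_⟩
  show p v = 0 ↔ _
  constructor
  · intro h
    have := hrest v
    rwa [← hjp, h, map_zero, sub_zero] at this
  · intro h
    have h0 : π v = 0 := eq_zero_of_polar hQ fun y => by
      have h1 : π v ∈ U := by
        simpa using Submodule.sub_mem _ h (hrest v)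
      rw [← sub_add_cancel y (π y), polar_add_right]
      have h2' : polar Q (π v) (y - π y) = 0 := by
        rw [polar_comm]; exact LinearMap.BilinForm.mem_orthogonal_iff.1 (hπ v) _ (hrest y)
      have h3 : polar Q (π v) (π y) = 0 := LinearMap.BilinForm.mem_orthogonal_iff.1 (hπ y) _ h1
      rw [h2', h3, add_zero]
    exact e.symm.map_eq_zero_iff.2 (Subtype.ext (by simpa using h0))

open scoped commutatorElement in
/-- `Ω` is perfect in dimension five too, if `|F| ≥ 5`. -/
theorem omega_perfect' [Fintype F] (hQ : Q.polarBilin.Nondegenerate) (h2 : (2 : F) ≠ 0)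
    (hn : 6 ≤ Fintype.card ι ∨ (5 ≤ Fintype.card ι ∧ 5 ≤ Fintype.card F)) :
    commutator (commutator (O Q)) = ⊤ := by
  classical
  rcases hn with hn | ⟨hn, hF⟩
  · exact CfsgLib.POmega.omega_perfect hQ hn
  obtain ⟨c, hc⟩ : ∃ c : F, c ∉ ({0, 1, -1} : Finset F) := by
    by_contra h
    push Not at h
    have := (Finset.card_le_card fun x (_ : x ∈ (Finset.univ : Finset F)) => h x).trans
      Finset.card_le_three
    rw [Finset.card_univ] at this
    omega
  simp only [Finset.mem_insert, Finset.mem_singleton, not_or] at hc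
  obtain ⟨hc0, hc1, hc2⟩ := hc
  have hcc : c * c ≠ 1 := fun h => (mul_self_eq_one_iff.1 h).elim hc1 hc2
  have main : ∀ {u x : ι → F}, Q u = 0 → polar Q u x = 0 →
      eich Q u x ∈ ⁅commutator (O Q), commutator (O Q)⁆ := by
    intro u x hu hx
    by_cases hu0 : u = 0
    · subst hu0; rw [eich_zero_left]; exact one_mem _
    obtain ⟨v, huv, hv⟩ := CfsgLib.POmega.exists_partner hQ hu hu0
    have huu : polar Q u u = 0 := by rw [polar_self', hu, mul_zero]
    have hvv : polar Q v v = 0 := by rw [polar_self', hv, mul_zero]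
    -- `x` may be taken orthogonal to `v`
    set y := x + (-polar Q x v) • u with hy
    have hyu : polar Q u y = 0 := by simp [hy, polar_add_right, polar_smul_right, hx, huu]
    have hyv : polar Q y v = 0 := by simp [hy, polar_add_left, polar_smul_left, huv]
    have hQ2 : ∀ a : F, Q (u + a • v) = a := fun a => by
      simp [QuadraticMap.map_add ⇑Q, QuadraticMap.map_smul, polar_smul_right, hu, hv, huv]
    obtain ⟨b, hb⟩ : ∃ b, b = refl Q (u + (c * c) • v) := ⟨_, rfl⟩
    obtain ⟨a, ha⟩ : ∃ a, a = refl Q (u + (1 : F) • v) := ⟨_, rfl⟩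
    obtain ⟨d, hd⟩ := FiniteField.exists_nonsquare (F := F) (fun hch => by
      have : CharP F 2 := ringChar.of_eq hch
      exact h2 CharTwo.two_eq_zero)
    have ht : b * a ∈ commutator (O Q) := by
      rw [commutator_eq hQ h2 hd, MonoidHom.mem_ker, map_mul, hb, ha,
        chiPair_refl h2 hd (by rw [hQ2]; exact mul_ne_zero hc0 hc0),
        chiPair_refl h2 hd (by rw [hQ2]; exact one_ne_zero), hQ2, hQ2]
      simp
    have htu : app (b * a) u = (c * c)⁻¹ • u := by
      rw [app_mul, ha, app_refl, hQ2, polar_add_right, huu, polar_smul_right, huv]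
      simp only [one_smul, inv_one, zero_add, mul_one, sub_add_cancel_left, map_neg]
      rw [hb, app_refl, hQ2, polar_add_right, polar_smul_right, hvv, polar_comm (f := ⇑Q) v u, huv]
      simp only [smul_zero, add_zero, mul_one, smul_add, smul_smul]
      rw [inv_mul_cancel₀ (mul_ne_zero hc0 hc0), one_smul]
      module
    have hlam : (c * c)⁻¹ - 1 ≠ 0 := sub_ne_zero.2 fun h => hcc (inv_eq_one.1 h)
    set z := ((c * c)⁻¹ - 1)⁻¹ • y with hz
    have hzu : polar Q u z = 0 := by rw [hz, polar_smul_right, hyu, smul_zero]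
    have hzv : polar Q z v = 0 := by rw [hz, polar_smul_left, hyv, smul_zero]
    have hzu' : polar Q z u = 0 := by rw [polar_comm, hzu]
    have htz : app (b * a) z = z := by
      rw [app_mul, ha, app_refl_of_ortho (by simp [polar_add_right, polar_smul_right, hzu', hzv]),
        hb, app_refl_of_ortho (by simp [polar_add_right, polar_smul_right, hzu', hzv])]
    have e := Subgroup.commutator_mem_commutator ht
      (CfsgLib.POmega.eich_mem_commutator hQ hn hu hzu)
    rw [commutatorElement_def, eich_conj hu hzu, htu, htz, CfsgLib.POmega.eich_neg_inv hu hzu,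
      CfsgLib.POmega.eich_smul hu hzu,
      eich_add hu (by rw [polar_smul_right, hzu, smul_zero]) (by rw [polar_neg_right, hzu, neg_zero]),
      show (c * c)⁻¹ • z + -z = ((c * c)⁻¹ - 1) • z by module, hz, smul_smul, mul_inv_cancel₀ hlam,
      one_smul, hy, CfsgLib.POmega.eich_add_smul hu hx] at e
    exact e
  have hle : commutator (O Q) ≤ ⁅commutator (O Q), commutator (O Q)⁆ := by
    conv_lhs => rw [CfsgLib.POmega.commutator_eq_eichGroup hQ hn]
    refine (Subgroup.closure_le _).2 ?_
    rintro _ ⟨u, a, hu, ha, rfl⟩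
    exact main hu ha
  apply Subgroup.map_injective (commutator (O Q)).subtype_injective
  rw [show commutator ↥(commutator (O Q)) = ⁅(⊤ : Subgroup (commutator (O Q))), ⊤⁆ from rfl,
    Subgroup.map_commutator, ← MonoidHom.range_eq_map, Subgroup.range_subtype]
  exact le_antisymm (Subgroup.commutator_le_self _) hle

end CfsgLib.OddMult
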